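import Groth.Agent.Adic.Rig.Closed
import Groth.Agent.Adic.Base.Trunc
import Groth.Agent.Completion.NoetherianComplete
import Mathlib.RingTheory.Finiteness.Finsupp

/-! Quotients of completions by ideals with finite quotient. -/

namespace Groth.Agent.Adic.Rig.CompletionQuot

universe u

variable {A C : Type u} [CommRing A] [IsNoetherianRing A] [CommRing C] [IsNoetherianRing C] [Algebra A C]
  {I : Ideal A} [IsAdicComplete I A]

theorem finite_quotient_pow (𝔞 : Ideal C) [Module.Finite A (C ⧸ 𝔞)] (n : ℕ) : Module.Finite A (C ⧸ 𝔞 ^ n) := by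
  induction n with
  | zero =>
    have : Subsingleton (C ⧸ 𝔞 ^ 0) := Ideal.Quotient.subsingleton_iff.mpr (by simp)
    infer_instance
  | succ n ih =>
    let π : (C ⧸ 𝔞 ^ (n + 1)) →ₐ[A] C ⧸ 𝔞 ^ n := Ideal.Quotient.factorₐ A (Ideal.pow_le_pow_right n.le_succ)
    refine ⟨Submodule.fg_of_fg_map_of_fg_inf_ker π.toLinearMap ?_ ?_⟩
    · rw [Submodule.map_top, LinearMap.range_eq_top.mpr (Ideal.Quotient.factor_surjective (Ideal.pow_le_pow_right n.le_succ))]
      exact Module.Finite.fg_top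
    · rw [top_inf_eq]
      obtain ⟨T, hT⟩ := (IsNoetherian.noetherian (𝔞 ^ n) : (𝔞 ^ n).FG)
      classical
      -- a finite sum of copies of `C ⧸ 𝔞` surjects onto the kernel
      have hkill : ∀ g : T, ∀ c ∈ 𝔞, c * (g : C) ∈ 𝔞 ^ (n + 1) := fun g c hc => by
        rw [pow_succ']; exact Ideal.mul_mem_mul hc (hT ▸ Ideal.subset_span g.2)
      let L : T → (C ⧸ 𝔞) →ₗ[A] C ⧸ 𝔞 ^ (n + 1) := fun g =>
        (Submodule.liftQ (𝔞.restrictScalars A)
          ((Ideal.Quotient.mkₐ A (𝔞 ^ (n + 1))).toLinearMap.comp (LinearMap.mulRight A (g : C)))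
          fun c hc => Ideal.Quotient.eq_zero_iff_mem.mpr (hkill g c hc)).comp
          (Submodule.Quotient.restrictScalarsEquiv A 𝔞).symm.toLinearMap
      have hL : ∀ g c, L g (Ideal.Quotient.mk 𝔞 c) = Ideal.Quotient.mk (𝔞 ^ (n + 1)) (c * g) := fun g c => rfl
      suffices π.toLinearMap.ker = ⨆ g, LinearMap.range (L g) by
        rw [this]
        refine Submodule.fg_iSup _ fun g => ?_
        rw [LinearMap.range_eq_map]
        exact Module.Finite.fg_top.map _
      refine le_antisymm (fun x hx => ?_) (iSup_le fun g => ?_)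
      · obtain ⟨x, rfl⟩ := Ideal.Quotient.mk_surjective x
        have hx1 : x ∈ 𝔞 ^ n := Ideal.Quotient.eq_zero_iff_mem.mp hx
        have hx' : x ∈ Ideal.span (T : Set C) := hT.ge hx1
        clear hx hx1
        induction hx' using Submodule.span_induction with
        | mem g hg =>
          exact Submodule.mem_iSup_of_mem (⟨g, hg⟩ : T) ⟨Ideal.Quotient.mk 𝔞 1, by rw [hL, one_mul]⟩
        | zero => rw [map_zero]; exact zero_mem _
        | add a b _ _ ha hb => rw [map_add]; exact add_mem ha hb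
        | smul r a _ ha =>
          rw [smul_eq_mul, map_mul]
          refine Submodule.iSup_induction (motive := fun z => Ideal.Quotient.mk _ r * z ∈ ⨆ g, LinearMap.range (L g))
            (fun g => LinearMap.range (L g)) ha (fun g z ⟨c, hc⟩ => ?_) (by rw [mul_zero]; exact zero_mem _)
            fun a b ha hb => by rw [mul_add]; exact add_mem ha hb
          obtain ⟨c, rfl⟩ := Ideal.Quotient.mk_surjective c
          subst hc
          exact Submodule.mem_iSup_of_mem g ⟨Ideal.Quotient.mk 𝔞 (r * c), by rw [hL, hL, ← map_mul, mul_assoc]⟩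
      · rintro _ ⟨c, rfl⟩
        obtain ⟨c, rfl⟩ := Ideal.Quotient.mk_surjective c
        refine Ideal.Quotient.eq_zero_iff_mem.mpr (Ideal.mul_mem_left _ c ?_)
        exact hT ▸ Ideal.subset_span g.2

variable (𝔞 : Ideal C) [Module.Finite A (C ⧸ 𝔞)]

theorem bijective : Function.Bijective (Ideal.quotientMap
    (𝔞.map (algebraMap C (AdicCompletion (I.map (algebraMap A C)) C)))
    (algebraMap C (AdicCompletion (I.map (algebraMap A C)) C)) Ideal.le_comap_map) := by
  set Ĉ := AdicCompletion (I.map (algebraMap A C)) C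
  have hI : I.FG := IsNoetherian.noetherian I
  have hĈn : IsNoetherianRing Ĉ :=
    Completion.NoetherianComplete.isNoetherianRing_adicCompletion _ (IsNoetherian.noetherian _)
  have hĈ : IsAdicComplete (I.map (algebraMap A Ĉ)) Ĉ := Base.Trunc.isAdicComplete_completion hI
  have hC : IsAdicComplete ((I.map (algebraMap A C)).map (Ideal.Quotient.mk 𝔞)) (C ⧸ 𝔞) := by
    have := FiniteModule.isAdicComplete_of_finite (I := I) (M := C ⧸ 𝔞)
    rw [show (I.map (algebraMap A C)).map (Ideal.Quotient.mk 𝔞) = I.map (algebraMap A (C ⧸ 𝔞)) from Ideal.map_map _ _]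
    exact { toIsHausdorff := IsHausdorff.map_algebraMap_iff.mpr this.toIsHausdorff
            toIsPrecomplete := IsPrecomplete.map_algebraMap_iff.mpr this.toIsPrecomplete }
  let Θ := Base.CompletionMap.extend (J := I.map (algebraMap A C))
    ((I.map (algebraMap A C)).map (Ideal.Quotient.mk 𝔞)) (Ideal.Quotient.mk 𝔞) Ideal.le_comap_map
  have hΘ : ∀ c, Θ (algebraMap C Ĉ c) = Ideal.Quotient.mk 𝔞 c :=
    Base.CompletionMap.extend_of (J := I.map (algebraMap A C))
      ((I.map (algebraMap A C)).map (Ideal.Quotient.mk 𝔞)) (Ideal.Quotient.mk 𝔞) Ideal.le_comap_map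
  constructor
  · rw [injective_iff_map_eq_zero]
    intro x hx
    obtain ⟨x, rfl⟩ := Ideal.Quotient.mk_surjective x
    rw [Ideal.quotientMap_mk, Ideal.Quotient.eq_zero_iff_mem] at hx
    rw [← hΘ]
    exact (Ideal.map_le_iff_le_comap.mpr (fun y hy => by
      rw [Ideal.mem_comap, RingHom.mem_ker, hΘ, Ideal.Quotient.eq_zero_iff_mem]; exact hy) :
        𝔞.map (algebraMap C Ĉ) ≤ RingHom.ker Θ) hx
  · set P := 𝔞.map (algebraMap C Ĉ)
    have hP := Closed.isAdicComplete_quotient (J := I.map (algebraMap A Ĉ)) P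
    rw [Ideal.map_map] at hP
    have : IsHausdorff I (Ĉ ⧸ P) := IsHausdorff.map_algebraMap_iff.mp hP.toIsHausdorff
    have : IsPrecomplete I (C ⧸ 𝔞) := (FiniteModule.isAdicComplete_of_finite (I := I) (M := C ⧸ 𝔞)).toIsPrecomplete
    let φ : (C ⧸ 𝔞) →ₐ[A] Ĉ ⧸ P := Ideal.quotientMapₐ P (IsScalarTower.toAlgHom A C Ĉ) Ideal.le_comap_map
    refine surjective_of_mkQ_comp_surjective (I := I) (f := φ.toLinearMap) fun y => ?_
    obtain ⟨y, rfl⟩ := Submodule.Quotient.mk_surjective _ y
    obtain ⟨y, rfl⟩ := Ideal.Quotient.mk_surjective y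
    obtain ⟨c, hc⟩ := Base.Trunc.exists_sub_mem (IsNoetherian.noetherian _) 1 y
    rw [pow_one, Base.Trunc.completion_map] at hc
    refine ⟨Ideal.Quotient.mk 𝔞 c, ?_⟩
    rw [LinearMap.comp_apply, Submodule.mkQ_apply, Submodule.Quotient.eq, Ideal.smul_top_eq_map,
      Submodule.restrictScalars_mem, IsScalarTower.algebraMap_eq A Ĉ (Ĉ ⧸ P), ← Ideal.map_map]
    show Ideal.Quotient.mk P (algebraMap C Ĉ c) - Ideal.Quotient.mk P y ∈ _
    rw [← map_sub, ← neg_sub, map_neg]
    exact neg_mem (Ideal.mem_map_of_mem (Ideal.Quotient.mk P) hc)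

end Groth.Agent.Adic.Rig.CompletionQuot
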