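import Groth.Agent.Adic.Rig.RigFlat
import Groth.Agent.Adic.Rig.CompletionQuot
import Groth.Agent.Flat.FlatAt
import Mathlib.RingTheory.TensorProduct.Quotient
import Mathlib.RingTheory.IsTensorProduct
import Mathlib.RingTheory.TensorProduct.Maps
import Mathlib.RingTheory.TensorProduct.Finite

/-! Rig-flatness and completed tensor products. -/

namespace Groth.Agent.Adic.Rig.BaseChange

open CompletedLoc Permanence RigFlat IsLocalRing TensorProduct

universe u

section Generic

theorem exists_lift {A B C W : Type u} [CommRing A] [CommRing B] [CommRing C] [CommRing W] [Algebra A B]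
    [Algebra A C] (f : C →+* W) (g : B →+* W) (h : f.comp (algebraMap A C) = g.comp (algebraMap A B)) :
    ∃ π : C ⊗[A] B →+* W, π.comp (algebraMap C (C ⊗[A] B)) = f ∧
      π.comp (Algebra.TensorProduct.includeRight : B →ₐ[A] C ⊗[A] B).toRingHom = g := by
  let _ : Algebra A W := (f.comp (algebraMap A C)).toAlgebra
  let f' : C →ₐ[A] W := { f with commutes' := fun a => rfl }
  let g' : B →ₐ[A] W := { g with commutes' := fun a => (RingHom.congr_fun h a).symm }
  refine ⟨(Algebra.TensorProduct.productMap f' g').toRingHom, RingHom.ext fun c => ?_, RingHom.ext fun b => ?_⟩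
  · exact (Algebra.TensorProduct.productMap_left_apply f' g' c)
  · show Algebra.TensorProduct.productMap f' g' (1 ⊗ₜ b) = g b
    rw [Algebra.TensorProduct.productMap_apply_tmul, map_one, one_mul]
    rfl

theorem ringHom_ext {A B C W : Type u} [CommRing A] [CommRing B] [CommRing C] [CommRing W] [Algebra A B]
    [Algebra A C] {π π' : C ⊗[A] B →+* W}
    (h1 : π.comp (algebraMap C (C ⊗[A] B)) = π'.comp (algebraMap C (C ⊗[A] B)))
    (h2 : π.comp (Algebra.TensorProduct.includeRight : B →ₐ[A] C ⊗[A] B).toRingHom =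
      π'.comp (Algebra.TensorProduct.includeRight : B →ₐ[A] C ⊗[A] B).toRingHom) : π = π' := by
  refine RingHom.ext fun z => ?_
  induction z using TensorProduct.induction_on with
  | zero => rw [map_zero, map_zero]
  | add x y hx hy => rw [map_add, map_add, hx, hy]
  | tmul c b =>
    have hc : c ⊗ₜ[A] b = algebraMap C (C ⊗[A] B) c * (Algebra.TensorProduct.includeRight : B →ₐ[A] C ⊗[A] B) b := by
      rw [Algebra.TensorProduct.algebraMap_apply, Algebra.TensorProduct.includeRight_apply,
        Algebra.TensorProduct.tmul_mul_tmul]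
      simp
    rw [hc, map_mul, map_mul]
    exact congrArg₂ (· * ·) (RingHom.congr_fun h1 c) (RingHom.congr_fun h2 b)

/-- Flatness of `(R ⧸ a) ⊗ N` from flatness of `N ⧸ aN`. -/
theorem flat_tensor_quotient {R N : Type u} [CommRing R] [CommRing N] [Algebra R N] (a : Ideal R)
    (h : (Ideal.quotientMap (a.map (algebraMap R N)) (algebraMap R N) Ideal.le_comap_map).Flat) :
    Module.Flat (R ⧸ a) ((R ⧸ a) ⊗[R] N) := by
  let e : (N ⧸ a.map (algebraMap R N)) ≃ₐ[R] (R ⧸ a) ⊗[R] N :=
    ((Algebra.TensorProduct.quotIdealMapEquivTensorQuot N a).restrictScalars R).trans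
      (Algebra.TensorProduct.comm R N (R ⧸ a))
  have hc : e.toRingEquiv.toRingHom.comp (Ideal.quotientMap (a.map (algebraMap R N)) (algebraMap R N) Ideal.le_comap_map) =
      algebraMap (R ⧸ a) ((R ⧸ a) ⊗[R] N) := by
    refine Ideal.Quotient.ringHom_ext (RingHom.ext fun r => ?_)
    exact (e.commutes r).trans (IsScalarTower.algebraMap_apply R (R ⧸ a) ((R ⧸ a) ⊗[R] N) r)
  exact RingHom.flat_algebraMap_iff.mp (hc ▸ h.comp (RingHom.Flat.of_bijective e.bijective))

/-- Flatness of a truncated local map from a base change presentation. -/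
theorem flat_quotientMap_localization {S Bh Cc T : Type u} [CommRing S] [CommRing Bh] [CommRing Cc] [CommRing T]
    [Algebra S Bh] [Algebra S Cc] [Algebra S T] (β : Bh →ₐ[S] T) (γ : Cc →ₐ[S] T) (Q : Ideal T) [Q.IsPrime] (n : ℕ)
    (hbij : Function.Bijective (Algebra.TensorProduct.productMap
      ((Ideal.Quotient.mkₐ S (((Q.comap γ.toRingHom) ^ n).map γ.toRingHom)).comp β)
      (Ideal.quotientMapₐ (((Q.comap γ.toRingHom) ^ n).map γ.toRingHom) γ Ideal.le_comap_map :
        (Cc ⧸ (Q.comap γ.toRingHom) ^ n) →ₐ[S] _)))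
    (hflat : ((algebraMap Bh (Localization.AtPrime (Q.comap β.toRingHom))).comp (algebraMap S Bh)).Flat) :
    (Ideal.quotientMap ((IsLocalRing.maximalIdeal (Localization.AtPrime (Q.comap γ.toRingHom)) ^ n).map
        (Localization.localRingHom (Q.comap γ.toRingHom) Q γ.toRingHom rfl))
      (Localization.localRingHom (Q.comap γ.toRingHom) Q γ.toRingHom rfl) Ideal.le_comap_map).Flat := by
  let pC := Q.comap γ.toRingHom
  let R := Localization.AtPrime pC
  let N := Localization.AtPrime Q
  let l : R →+* N := Localization.localRingHom pC Q γ.toRingHom rfl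
  let P : Ideal T := (pC ^ n).map γ.toRingHom
  let Cn := Cc ⧸ pC ^ n
  let U := T ⧸ P
  let bUa : Bh →ₐ[S] U := (Ideal.Quotient.mkₐ S P).comp β
  let cUa : Cn →ₐ[S] U := Ideal.quotientMapₐ P γ Ideal.le_comap_map
  let _ : Algebra Cn U := cUa.toRingHom.toAlgebra
  have : IsScalarTower S Cn U := IsScalarTower.of_algebraMap_eq fun r => (cUa.commutes r).symm
  let e₀ : Cn ⊗[S] Bh →ₐ[Cn] U := Algebra.TensorProduct.lift (Algebra.ofId Cn U) bUa fun _ _ => Commute.all _ _
  have he₀ : ∀ z, e₀ z = Algebra.TensorProduct.productMap bUa cUa (Algebra.TensorProduct.comm S Cn Bh z) := fun z => by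
    induction z using TensorProduct.induction_on with
    | zero => rw [map_zero, map_zero, map_zero]
    | add x y hx hy => rw [map_add, map_add, map_add, hx, hy]
    | tmul y b =>
      rw [Algebra.TensorProduct.comm_tmul, Algebra.TensorProduct.lift_tmul, Algebra.TensorProduct.productMap_apply_tmul,
        mul_comm]
      rfl
  have hbij₀ : Function.Bijective e₀ := by
    rw [show (e₀ : Cn ⊗[S] Bh → U) = Algebra.TensorProduct.productMap bUa cUa ∘ Algebra.TensorProduct.comm S Cn Bh from funext he₀]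
    exact hbij.comp (Algebra.TensorProduct.comm S Cn Bh).bijective
  have hbc : IsBaseChange Cn bUa.toLinearMap :=
    IsBaseChange.of_equiv (AlgEquiv.ofBijective e₀ hbij₀).toLinearEquiv fun b => by
      show e₀ (1 ⊗ₜ b) = bUa b
      rw [Algebra.TensorProduct.lift_tmul, map_one, one_mul]
  have hmapP : P.map (algebraMap T N) = (IsLocalRing.maximalIdeal R ^ n).map l := by
    rw [← Localization.AtPrime.map_eq_maximalIdeal (I := pC), ← Ideal.map_pow, Ideal.map_map, Ideal.map_map]
    exact congrArg (fun e => Ideal.map e (pC ^ n))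
      (RingHom.ext fun x => (Localization.localRingHom_to_map pC Q γ.toRingHom rfl x).symm)
  rcases n.eq_zero_or_pos with hn | hn
  · subst hn
    have : Subsingleton (N ⧸ (IsLocalRing.maximalIdeal R ^ 0).map l) :=
      Ideal.Quotient.subsingleton_iff.mpr (by rw [pow_zero, Ideal.one_eq_top, Ideal.map_top])
    let _ : Algebra (R ⧸ IsLocalRing.maximalIdeal R ^ 0) (N ⧸ (IsLocalRing.maximalIdeal R ^ 0).map l) :=
      (Ideal.quotientMap _ l Ideal.le_comap_map).toAlgebra
    exact RingHom.flat_algebraMap_iff.mpr inferInstance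
  let Qn := N ⧸ P.map (algebraMap T N)
  have hQloc : IsLocalization (Algebra.algebraMapSubmonoid U Q.primeCompl) Qn := inferInstance
  let qU : Ideal U := Q.map (Ideal.Quotient.mk P)
  have hPle : P ≤ Q := Ideal.map_le_iff_le_comap.mpr (Ideal.pow_le_self hn.ne')
  have hqUp : qU.IsPrime := Ideal.map_isPrime_of_surjective Ideal.Quotient.mk_surjective (by rw [Ideal.mk_ker]; exact hPle)
  have hqUc : qU.comap (Ideal.Quotient.mk P) = Q := Ideal.comap_map_mk hPle
  have hcompl : Algebra.algebraMapSubmonoid U Q.primeCompl = qU.primeCompl := by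
    ext x
    constructor
    · rintro ⟨y, hy, rfl⟩ h'
      exact hy (hqUc ▸ h')
    · intro hx
      obtain ⟨x, rfl⟩ := Ideal.Quotient.mk_surjective x
      exact ⟨x, fun h' => hx (Ideal.mem_map_of_mem _ h'), rfl⟩
  have hloc' : IsLocalizedModule qU.primeCompl (IsScalarTower.toAlgHom U U Qn).toLinearMap :=
    isLocalizedModule_iff_isLocalization.mpr (by
      rw [Algebra.algebraMapSubmonoid_self]; exact hcompl ▸ hQloc)
  let pB := Q.comap β.toRingHom
  have hpBeq : qU.comap bUa.toRingHom ≤ pB := fun x hx => (hqUc ▸ hx : β x ∈ Q)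
  have hat : Flat.FlatAt.FlatAt S Bh pB := by
    let Lb := Localization.AtPrime pB
    have : IsLocalizedModule pB.primeCompl (IsScalarTower.toAlgHom Bh Bh Lb).toLinearMap :=
      isLocalizedModule_iff_isLocalization.mpr (by rw [Algebra.algebraMapSubmonoid_self]; infer_instance)
    exact (Flat.FlatAt.flatAt_iff pB (IsScalarTower.toAlgHom Bh Bh Lb).toLinearMap).mpr
      (RingHom.flat_algebraMap_iff.mp (IsScalarTower.algebraMap_eq S Bh Lb ▸ hflat))
  have hatU : Flat.FlatAt.FlatAt Cn U qU :=
    Flat.FlatAt.FlatAt.baseChange bUa.toRingHom bUa.toLinearMap hbc (fun s m => map_mul bUa s m) qU hpBeq hat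
  let _ : Algebra Cn Qn := ((algebraMap U Qn).comp cUa.toRingHom).toAlgebra
  have : IsScalarTower Cn U Qn := IsScalarTower.of_algebraMap_eq' rfl
  have hflatQ : Module.Flat Cn Qn := (Flat.FlatAt.flatAt_iff qU (IsScalarTower.toAlgHom U U Qn).toLinearMap).mp hatU
  let Rn := R ⧸ (pC ^ n).map (algebraMap Cc R)
  have hRloc : IsLocalization (Algebra.algebraMapSubmonoid Cn pC.primeCompl) Rn := inferInstance
  have hle : (pC ^ n).map (algebraMap Cc R) ≤ (P.map (algebraMap T N)).comap l := by
    rw [← Ideal.map_le_iff_le_comap, hmapP, Ideal.map_pow, Localization.AtPrime.map_eq_maximalIdeal]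
  let rn : Rn →+* Qn := Ideal.quotientMap _ l hle
  let _ : Algebra Rn Qn := rn.toAlgebra
  have : IsScalarTower Cn Rn Qn := IsScalarTower.of_algebraMap_eq fun y => by
    obtain ⟨y, rfl⟩ := Ideal.Quotient.mk_surjective y
    exact congrArg (Ideal.Quotient.mk _) (Localization.localRingHom_to_map pC Q γ.toRingHom rfl y).symm
  have hflatR : rn.Flat :=
    (Module.flat_iff_of_isLocalization Rn (Algebra.algebraMapSubmonoid Cn pC.primeCompl) Qn).mpr hflatQ
  let e₁ : (R ⧸ IsLocalRing.maximalIdeal R ^ n) ≃+* Rn := Ideal.quotEquivOfEq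
    (by rw [← Localization.AtPrime.map_eq_maximalIdeal (I := pC), Ideal.map_pow])
  let e₂ : Qn ≃+* N ⧸ (IsLocalRing.maximalIdeal R ^ n).map l := Ideal.quotEquivOfEq hmapP
  have hfin3 := ((RingHom.Flat.of_bijective (f := e₁.toRingHom) e₁.bijective).comp hflatR).comp
    (RingHom.Flat.of_bijective (f := e₂.toRingHom) e₂.bijective)
  convert hfin3 using 1
  refine Ideal.Quotient.ringHom_ext (RingHom.ext fun x => ?_)
  rfl

theorem bijective_productMap {S Bh Cc T : Type u} [CommRing S] [CommRing Bh] [CommRing Cc] [CommRing T]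
    [Algebra S Bh] [Algebra S Cc] [Algebra S T] (β : Bh →ₐ[S] T) (γ : Cc →ₐ[S] T) (a : Ideal Cc)
    (hex : ∃ Θ : T →+* Bh ⊗[S] (Cc ⧸ a), Θ.comp β.toRingHom = algebraMap Bh (Bh ⊗[S] (Cc ⧸ a)) ∧
      Θ.comp γ.toRingHom = (Algebra.TensorProduct.includeRight : (Cc ⧸ a) →ₐ[S] Bh ⊗[S] (Cc ⧸ a)).toRingHom.comp
        (Ideal.Quotient.mk a))
    (hext : ∀ f : T →+* T ⧸ a.map γ.toRingHom, f.comp β.toRingHom = (Ideal.Quotient.mk _).comp β.toRingHom →
      f.comp γ.toRingHom = (Ideal.Quotient.mk _).comp γ.toRingHom → f = Ideal.Quotient.mk _) :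
    Function.Bijective (Algebra.TensorProduct.productMap ((Ideal.Quotient.mkₐ S (a.map γ.toRingHom)).comp β)
      (Ideal.quotientMapₐ (a.map γ.toRingHom) γ Ideal.le_comap_map : (Cc ⧸ a) →ₐ[S] _)) := by
  obtain ⟨Θ, hΘβ, hΘγ⟩ := hex
  let P := a.map γ.toRingHom
  let u : Bh ⊗[S] (Cc ⧸ a) →ₐ[S] T ⧸ P := Algebra.TensorProduct.productMap ((Ideal.Quotient.mkₐ S P).comp β)
      (Ideal.quotientMapₐ P γ Ideal.le_comap_map)
  have hle : P ≤ RingHom.ker Θ := Ideal.map_le_iff_le_comap.mpr fun y hy => by
    show Θ.comp γ.toRingHom y = 0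
    rw [hΘγ]
    show (1 : Bh) ⊗ₜ[S] (Ideal.Quotient.mk a y) = 0
    rw [Ideal.Quotient.eq_zero_iff_mem.mpr hy, TensorProduct.tmul_zero]
  let v : T ⧸ P →+* Bh ⊗[S] (Cc ⧸ a) := Ideal.Quotient.lift P Θ fun x hx => hle hx
  have hvu : ∀ w, v (u w) = w := fun w => by
    induction w using TensorProduct.induction_on with
    | zero => rw [map_zero, map_zero]
    | add x y hx hy => rw [map_add, map_add, hx, hy]
    | tmul b y =>
      obtain ⟨y, rfl⟩ := Ideal.Quotient.mk_surjective y
      rw [Algebra.TensorProduct.productMap_apply_tmul, map_mul]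
      show Θ.comp β.toRingHom b * Θ.comp γ.toRingHom y = _
      rw [hΘβ, hΘγ]
      show (b ⊗ₜ[S] (1 : Cc ⧸ a)) * ((1 : Bh) ⊗ₜ[S] (Ideal.Quotient.mk a y)) = _
      rw [Algebra.TensorProduct.tmul_mul_tmul, mul_one, one_mul]
  have huv : ∀ z, u (v z) = z := by
    have key : u.toRingHom.comp Θ = Ideal.Quotient.mk P := by
      refine hext _ ?_ ?_
      · rw [RingHom.comp_assoc, hΘβ]
        refine RingHom.ext fun b => ?_
        show u (b ⊗ₜ[S] 1) = _
        rw [Algebra.TensorProduct.productMap_apply_tmul, map_one, mul_one]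
        rfl
      · rw [RingHom.comp_assoc, hΘγ]
        refine RingHom.ext fun y => ?_
        show u (1 ⊗ₜ Ideal.Quotient.mk a y) = _
        rw [Algebra.TensorProduct.productMap_apply_tmul, map_one, one_mul]
        rfl
    intro z
    obtain ⟨z, rfl⟩ := Ideal.Quotient.mk_surjective z
    exact RingHom.congr_fun key z
  exact ⟨Function.LeftInverse.injective hvu, Function.RightInverse.surjective huv⟩

end Generic

section Univ

variable {A B C D : Type u} [CommRing A] [CommRing B] [CommRing C] [CommRing D] [Algebra A B] [Algebra A C]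
  [Algebra C D] (IC : Ideal C) (ιB : B →+* D)

/-- The lifting half of the universal property of a completed tensor product. -/
def HasLift : Prop :=
  ∀ (W : Type u) [CommRing W] (fC : C →+* W) (fB : B →+* W), fC.comp (algebraMap A C) = fB.comp (algebraMap A B) →
    IsAdicComplete (IC.map fC) W → ∃ π : D →+* W, π.comp (algebraMap C D) = fC ∧ π.comp ιB = fB

/-- The uniqueness half of the universal property of a completed tensor product. -/
def HasExt : Prop :=
  ∀ (W : Type u) [CommRing W] (K' : Ideal W), IsAdicComplete K' W → ∀ f g : D →+* W,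
    IC.map (f.comp (algebraMap C D)) ≤ K' → f.comp (algebraMap C D) = g.comp (algebraMap C D) →
    f.comp ιB = g.comp ιB → f = g

end Univ

/-- Flatness of the truncated local maps, given the universal property. -/
theorem flat_trunc {S Bh Cc T : Type u} [CommRing S] [CommRing Bh] [CommRing Cc] [CommRing T] [IsNoetherianRing S]
    [IsNoetherianRing Bh] [IsNoetherianRing Cc] [Algebra S Bh] [Algebra S Cc] [Algebra S T]
    (JS : Ideal Bh) [IsAdicComplete JS Bh] (β : Bh →ₐ[S] T) (γ : Cc →ₐ[S] T) (Q : Ideal T) [Q.IsPrime]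
    [Module.Finite S (Cc ⧸ Q.comap γ.toRingHom)] (n : ℕ)
    (hex : ∀ (W : Type u) [CommRing W] (wB : Bh →+* W) (wC : Cc →+* W),
      wB.comp (algebraMap S Bh) = wC.comp (algebraMap S Cc) → IsAdicComplete (JS.map wB) W →
      ∃ Θ : T →+* W, Θ.comp β.toRingHom = wB ∧ Θ.comp γ.toRingHom = wC)
    (hext : ∀ (P : Ideal T) (f : T →+* T ⧸ P), f.comp β.toRingHom = (Ideal.Quotient.mk P).comp β.toRingHom →
      f.comp γ.toRingHom = (Ideal.Quotient.mk P).comp γ.toRingHom → f = Ideal.Quotient.mk P)
    (hflat : ((algebraMap Bh (Localization.AtPrime (Q.comap β.toRingHom))).comp (algebraMap S Bh)).Flat) :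
    (Ideal.quotientMap ((IsLocalRing.maximalIdeal (Localization.AtPrime (Q.comap γ.toRingHom)) ^ n).map
        (Localization.localRingHom (Q.comap γ.toRingHom) Q γ.toRingHom rfl))
      (Localization.localRingHom (Q.comap γ.toRingHom) Q γ.toRingHom rfl) Ideal.le_comap_map).Flat := by
  have := CompletionQuot.finite_quotient_pow (A := S) (Q.comap γ.toRingHom) n
  refine flat_quotientMap_localization β γ Q n (bijective_productMap β γ _ ?_ (hext _)) hflat
  have hWn : IsNoetherianRing (Bh ⊗[S] (Cc ⧸ (Q.comap γ.toRingHom) ^ n)) :=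
    IsNoetherianRing.of_finite Bh _
  refine hex _ _ _ (RingHom.ext fun r => Algebra.TensorProduct.tmul_one_eq_one_tmul r) ?_
  have := FiniteModule.isAdicComplete_of_finite (I := JS) (M := Bh ⊗[S] (Cc ⧸ (Q.comap γ.toRingHom) ^ n))
  exact { toIsHausdorff := IsHausdorff.map_algebraMap_iff.mpr this.toIsHausdorff
          toIsPrecomplete := IsPrecomplete.map_algebraMap_iff.mpr this.toIsPrecomplete }

variable {A B C D : Type u} [CommRing A] [CommRing B] [CommRing C] [CommRing D] [IsNoetherianRing A]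
  [IsNoetherianRing B] [IsNoetherianRing C] [IsNoetherianRing D] [Algebra A B] [Algebra A C] [Algebra A D]
  [Algebra C D] [IsScalarTower A C D] {I : Ideal A} {JB : Ideal B} {IC : Ideal C} {JD : Ideal D} {ιB : B →+* D}

omit [IsNoetherianRing D] [Algebra A D] [IsScalarTower A C D] [IsNoetherianRing A] in
theorem exists_univ (hJB : I.map (algebraMap A B) = JB) (hIC : IC = I.map (algebraMap A C))
    (hJD : IC.map (algebraMap C D) = JD) (hL : HasLift (A := A) IC ιB)
    {h₀ : A} {c : C} {σB : K I h₀ →+* K JB (algebraMap A B h₀)} {σC : K I h₀ →+* K IC c}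
    (hσB : σB.comp (algebraMap A (K I h₀)) = (algebraMap B (K JB (algebraMap A B h₀))).comp (algebraMap A B))
    (hσC : σC.comp (algebraMap A (K I h₀)) = (algebraMap C (K IC c)).comp (algebraMap A C))
    {β : K JB (algebraMap A B h₀) →+* K JD (algebraMap C D c)}
    (hβ : β.comp (algebraMap B (K JB (algebraMap A B h₀))) = (algebraMap D (K JD (algebraMap C D c))).comp ιB)
    {γ : K IC c →+* K JD (algebraMap C D c)}
    (hγ : γ.comp (algebraMap C (K IC c)) = (algebraMap D (K JD (algebraMap C D c))).comp (algebraMap C D))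
    (W : Type u) [CommRing W] (wB : K JB (algebraMap A B h₀) →+* W) (wC : K IC c →+* W)
    (hw : wB.comp σB = wC.comp σC)
    (hW : IsAdicComplete ((JB.map (algebraMap B (K JB (algebraMap A B h₀)))).map wB) W) :
    ∃ Θ : K JD (algebraMap C D c) →+* W, Θ.comp β = wB ∧ Θ.comp γ = wC := by
  have hcompA : (wC.comp (algebraMap C (K IC c))).comp (algebraMap A C) =
      (wB.comp (algebraMap B (K JB (algebraMap A B h₀)))).comp (algebraMap A B) := by
    rw [RingHom.comp_assoc, ← hσC, RingHom.comp_assoc, ← hσB, ← RingHom.comp_assoc, ← hw, RingHom.comp_assoc]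
  have hK' : (JB.map (algebraMap B (K JB (algebraMap A B h₀)))).map wB = IC.map (wC.comp (algebraMap C (K IC c))) := by
    refine Eq.trans ?_ (congrArg (Ideal.map (wC.comp (algebraMap C (K IC c)))) hIC.symm)
    rw [Ideal.map_map (algebraMap A C), hcompA, ← Ideal.map_map (algebraMap A B), hJB, ← Ideal.map_map]
  obtain ⟨π, hπC, hπB⟩ := hL W _ _ hcompA (hK' ▸ hW)
  have hπJ : JD.map π = IC.map (wC.comp (algebraMap C (K IC c))) := by rw [← hJD, Ideal.map_map, hπC]
  obtain ⟨Θ, hΘ⟩ := exists_extend (J := JD) (algebraMap C D c) π (by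
    rw [← RingHom.comp_apply π, hπC, RingHom.comp_apply, IsScalarTower.algebraMap_apply C (Localization.Away c) (K IC c)]
    exact ((IsLocalization.Away.algebraMap_isUnit (S := Localization.Away c) c).map _).map _) (by rw [hπJ, ← hK']; exact hW)
  have := hW
  refine ⟨Θ, Permanence.hom_ext (K' := (JB.map (algebraMap B (K JB (algebraMap A B h₀)))).map wB) ?_ ?_,
    Permanence.hom_ext (K' := (JB.map (algebraMap B (K JB (algebraMap A B h₀)))).map wB) ?_ ?_⟩
  · rw [RingHom.comp_assoc, hβ, ← RingHom.comp_assoc, hΘ, hπB, ← Ideal.map_map]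
  · rw [RingHom.comp_assoc, hβ, ← RingHom.comp_assoc, hΘ, hπB]
  · rw [RingHom.comp_assoc, hγ, ← RingHom.comp_assoc, hΘ, hπC, ← hK']
  · rw [RingHom.comp_assoc, hγ, ← RingHom.comp_assoc, hΘ, hπC]

omit [IsNoetherianRing A] [IsNoetherianRing B] [IsNoetherianRing C] [Algebra A B] [Algebra A C] [Algebra A D]
  [IsScalarTower A C D] in
theorem univ_ext (hJD : IC.map (algebraMap C D) = JD) (hE : HasExt IC ιB) {b : B} {c : C}
    {β : K JB b →+* K JD (algebraMap C D c)}
    (hβ : β.comp (algebraMap B (K JB b)) = (algebraMap D (K JD (algebraMap C D c))).comp ιB)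
    {γ : K IC c →+* K JD (algebraMap C D c)}
    (hγ : γ.comp (algebraMap C (K IC c)) = (algebraMap D (K JD (algebraMap C D c))).comp (algebraMap C D))
    (P : Ideal (K JD (algebraMap C D c))) (f : K JD (algebraMap C D c) →+* K JD (algebraMap C D c) ⧸ P)
    (h1 : f.comp β = (Ideal.Quotient.mk P).comp β) (h2 : f.comp γ = (Ideal.Quotient.mk P).comp γ) :
    f = Ideal.Quotient.mk P := by
  have := CompletedLoc.isNoetherianRing JD (algebraMap C D c)
  have := CompletedLoc.isAdicComplete JD (algebraMap C D c)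
  have := Closed.isAdicComplete_quotient (J := JD.map (algebraMap D (K JD (algebraMap C D c)))) P
  have e : f.comp (algebraMap D (K JD (algebraMap C D c))) =
      (Ideal.Quotient.mk P).comp (algebraMap D (K JD (algebraMap C D c))) := by
    have eC : (f.comp (algebraMap D (K JD (algebraMap C D c)))).comp (algebraMap C D) =
        ((Ideal.Quotient.mk P).comp (algebraMap D (K JD (algebraMap C D c)))).comp (algebraMap C D) := by
      rw [RingHom.comp_assoc, ← hγ, ← RingHom.comp_assoc, h2, RingHom.comp_assoc, hγ, ← RingHom.comp_assoc]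
    refine hE _ _ this _ _ ?_ eC ?_
    · rw [eC, ← Ideal.map_map, ← Ideal.map_map, hJD]
    · rw [RingHom.comp_assoc, ← hβ, ← RingHom.comp_assoc, h1, RingHom.comp_assoc, hβ, ← RingHom.comp_assoc]
  refine Permanence.hom_ext (K' := (JD.map (algebraMap D (K JD (algebraMap C D c)))).map (Ideal.Quotient.mk P)) ?_ e
  rw [e, ← Ideal.map_map]

theorem baseChange_of_univ (hJB : I.map (algebraMap A B) = JB) (hIC : IC = I.map (algebraMap A C))
    (hJD : IC.map (algebraMap C D) = JD) (hιB : ιB.comp (algebraMap A B) = algebraMap A D)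
    (hftD : Algebra.FiniteType A (D ⧸ JD)) (hL : HasLift (A := A) IC ιB) (hE : HasExt IC ιB)
    (hAB : Permanence.RigFlat A B I JB) : Permanence.RigFlat C D IC JD := by
  intro h ψ hψ q hq
  rw [RigFlat.map_map_eq] at hq
  have hDA : JD = I.map (algebraMap A D) :=
    (hJD.symm.trans (congrArg (Ideal.map (algebraMap C D)) hIC)).trans
      ((Ideal.map_map _ _).trans (congrArg (fun e => Ideal.map e I) (IsScalarTower.algebraMap_eq A C D).symm))
  obtain ⟨h₀, hh⟩ := exists_shrink' (A := A) (I := I) (C := D) (J := JD) hDA hftD _ q hq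
  let c := h * algebraMap A C h₀
  obtain ⟨θ, q', hθ, hcomap, hq', hfin⟩ := hh (algebraMap C D c)
    (by rw [map_mul, ← IsScalarTower.algebraMap_apply A C D])
  have hJBD : JB.map ιB = JD := by rw [← hJB, Ideal.map_map, hιB, hDA]
  have hu : IsUnit (algebraMap D (Localization.Away (algebraMap C D c)) (algebraMap A D h₀)) :=
    RigFlat.isUnit_of_dvd (by
      rw [IsScalarTower.algebraMap_apply A C D]
      exact map_dvd _ (dvd_mul_left _ h))
  obtain ⟨σB, hσB⟩ := exists_map (I := I) (J := JB) (algebraMap A B) hJB.le h₀ (algebraMap A B h₀)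
    (RigFlat.isUnit_of_dvd dvd_rfl)
  obtain ⟨β, hβ⟩ := exists_map (I := JB) (J := JD) ιB hJBD.le (algebraMap A B h₀) (algebraMap C D c)
    (by rw [← RingHom.comp_apply ιB, hιB]; exact hu)
  obtain ⟨σC, hσC⟩ := exists_map (I := I) (J := IC) (algebraMap A C) hIC.ge h₀ c
    (RigFlat.isUnit_of_dvd (dvd_mul_left _ h))
  obtain ⟨γ, hγ⟩ := exists_map (I := IC) (J := JD) (algebraMap C D) hJD.le c (algebraMap C D c)
    (RigFlat.isUnit_of_dvd dvd_rfl)
  obtain ⟨θC, hθC⟩ := exists_map (I := IC) (J := IC) (RingHom.id C) (by rw [Ideal.map_id]) h c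
    (RigFlat.isUnit_of_dvd (dvd_mul_right h _))
  have hωB : (β.comp σB).comp (algebraMap A (K I h₀)) =
      (algebraMap D (K JD (algebraMap C D c))).comp (algebraMap A D) := by
    rw [RingHom.comp_assoc, hσB, ← RingHom.comp_assoc, hβ, RingHom.comp_assoc, hιB]
  have hωC : (γ.comp σC).comp (algebraMap A (K I h₀)) =
      (algebraMap D (K JD (algebraMap C D c))).comp (algebraMap A D) := by
    rw [RingHom.comp_assoc, hσC, ← RingHom.comp_assoc, hγ, RingHom.comp_assoc, ← IsScalarTower.algebraMap_eq]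
  have hfinB := hfin h₀ hu dvd_rfl _ hωB
  have hfinC := hfin h₀ hu dvd_rfl _ hωC
  rw [← RingHom.comp_assoc] at hfinB
  have hωeq : β.comp σB = γ.comp σC := RigFlat.hom_eq (φ := algebraMap A D) hDA.ge hωB hωC
  have hTn := CompletedLoc.isNoetherianRing JD (algebraMap C D c)
  have hTc := CompletedLoc.isAdicComplete JD (algebraMap C D c)
  have hSn := CompletedLoc.isNoetherianRing I h₀
  have hBn := CompletedLoc.isNoetherianRing JB (algebraMap A B h₀)
  have hBc := CompletedLoc.isAdicComplete JB (algebraMap A B h₀)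
  have hCn := CompletedLoc.isNoetherianRing IC c
  have hpB := RigFlat.isRigClosed_comap β (show (JB.map (algebraMap B (K JB (algebraMap A B h₀)))).map β = _ by
    rw [Ideal.map_map, hβ, ← Ideal.map_map, hJBD]) hq' (RingHom.Finite.of_comp_finite hfinB)
  have hflatB := RigFlat.apply_rigFlat hAB hσB hpB
  let pC : Ideal (K IC c) := q'.asIdeal.comap γ
  let R := Localization.AtPrime pC
  let N := Localization.AtPrime q'.asIdeal
  let l : R →+* N := Localization.localRingHom pC q'.asIdeal γ rfl
  -- the truncations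
  let _ : Algebra (K I h₀) (K IC c) := σC.toAlgebra
  let _ : Algebra (K I h₀) (K JB (algebraMap A B h₀)) := σB.toAlgebra
  let _ : Algebra (K I h₀) (K JD (algebraMap C D c)) := (β.comp σB).toAlgebra
  let βa : K JB (algebraMap A B h₀) →ₐ[K I h₀] K JD (algebraMap C D c) := { β with commutes' := fun r => rfl }
  let γa : K IC c →ₐ[K I h₀] K JD (algebraMap C D c) :=
    { γ with commutes' := fun r => (RingHom.congr_fun hωeq r).symm }
  have hfinC0 : Module.Finite (K I h₀) (K IC c ⧸ q'.asIdeal.comap γa.toRingHom) := by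
    have : Module.Finite (K I h₀) (K JD (algebraMap C D c) ⧸ q'.asIdeal) :=
      RingHom.finite_algebraMap.mp ((RingHom.comp_assoc _ _ _) ▸ hfinB :
        ((Ideal.Quotient.mk q'.asIdeal).comp (β.comp σB)).Finite)
    let ι : (K IC c ⧸ pC) →ₐ[K I h₀] (K JD (algebraMap C D c) ⧸ q'.asIdeal) :=
      { Ideal.quotientMap q'.asIdeal γ le_rfl with
        commutes' := fun r => congrArg (Ideal.Quotient.mk q'.asIdeal) (RingHom.congr_fun hωeq r).symm }
    exact Module.Finite.of_injective ι.toLinearMap (Ideal.quotientMap_injective' (H := le_rfl) le_rfl)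
  have hkey : ∀ n : ℕ, (Ideal.quotientMap ((IsLocalRing.maximalIdeal R ^ n).map l) l Ideal.le_comap_map).Flat :=
    fun n => flat_trunc (JB.map (algebraMap B (K JB (algebraMap A B h₀)))) βa γa q'.asIdeal n
      (fun W _ wB wC hw hW => exists_univ hJB hIC hJD hL hσB hσC hβ hγ W wB wC hw hW)
      (fun P f h1 h2 => univ_ext hJD hE hβ hγ P f h1 h2) hflatB
  have hRn : IsNoetherianRing R := IsLocalization.isNoetherianRing pC.primeCompl _ hCn
  have hNn : IsNoetherianRing N := IsLocalization.isNoetherianRing q'.asIdeal.primeCompl _ hTn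
  have hloc : IsLocalHom l := Localization.isLocalHom_localRingHom _ _ _ _
  have hRN : l.Flat := by
    let _ : Algebra R N := l.toAlgebra
    refine Base.Tame.flat_of_flat_quotient (a := IsLocalRing.maximalIdeal R) (C := N) (M := N)
      (Base.Classes.isTame_of_isNoetherianRing _) (Base.Classes.isTame_of_isNoetherianRing _) ?_
      fun n => flat_tensor_quotient _ (hkey (n + 1))
    rw [IsLocalRing.jacobson_eq_maximalIdeal ⊥ bot_ne_top]
    exact ((IsLocalRing.local_hom_TFAE l).out 0 2).mp hloc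
  have h5 : ((algebraMap (K JD (algebraMap C D c)) N).comp γ).Flat := by
    have heq : l.comp (algebraMap (K IC c) R) = (algebraMap (K JD (algebraMap C D c)) N).comp γ := RingHom.ext fun x =>
      Localization.localRingHom_to_map pC q'.asIdeal γ rfl x
    exact heq ▸ (RingHom.flat_algebraMap_iff.mpr (IsLocalization.flat R pC.primeCompl)).comp hRN
  have h6 := (flat_map (φ := RingHom.id C) (RingHom.Flat.id C) (by rw [Ideal.map_id]) θC hθC).comp h5
  refine flat_descent θ (flat_map (φ := RingHom.id D) (RingHom.Flat.id D) (by rw [Ideal.map_id]) θ hθ) ψ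
    q.asIdeal q'.asIdeal hcomap ?_
  rw [RingHom.comp_assoc] at h6
  convert h6 using 2
  refine RigFlat.hom_eq (φ := algebraMap C D) hJD.le ?_ ?_
  · rw [RingHom.comp_assoc, comp_algebraMap hψ, ← RingHom.comp_assoc, hθ, RingHom.comp_id]
  · rw [RingHom.comp_assoc, hθC, RingHom.comp_id, hγ]

section Completion

variable {A B C : Type u} [CommRing A] [CommRing B] [CommRing C] [IsNoetherianRing A] [IsNoetherianRing B]
  [IsNoetherianRing C] [Algebra A B] [Algebra A C] {I : Ideal A} {JB : Ideal B} {IC : Ideal C}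

/-- Completed tensor product. -/
abbrev Dhat (IC : Ideal C) (B : Type u) [CommRing B] [Algebra A B] : Type u :=
  AdicCompletion (IC.map (algebraMap C (C ⊗[A] B))) (C ⊗[A] B)

omit [IsNoetherianRing A] [IsNoetherianRing B] [IsNoetherianRing C] in
theorem finiteType_E (hJB : I.map (algebraMap A B) = JB) (hIC : IC = I.map (algebraMap A C))
    (hftB : Algebra.FiniteType A (B ⧸ JB)) (hftC : Algebra.FiniteType A (C ⧸ IC)) :
    Algebra.FiniteType A ((C ⊗[A] B) ⧸ IC.map (algebraMap C (C ⊗[A] B))) := by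
  let JE := IC.map (algebraMap C (C ⊗[A] B))
  have hB : JB ≤ JE.comap (Algebra.TensorProduct.includeRight : B →ₐ[A] C ⊗[A] B).toRingHom := by
    have hc : (Algebra.TensorProduct.includeRight : B →ₐ[A] C ⊗[A] B).toRingHom.comp (algebraMap A B) =
        algebraMap A (C ⊗[A] B) := (Algebra.TensorProduct.includeRight : B →ₐ[A] C ⊗[A] B).comp_algebraMap
    rw [← hJB, Ideal.map_le_iff_le_comap, Ideal.comap_comap, hc, ← Ideal.map_le_iff_le_comap,
      IsScalarTower.algebraMap_eq A C (C ⊗[A] B), ← Ideal.map_map, ← hIC]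
  let fC : (C ⧸ IC) →ₐ[A] (C ⊗[A] B) ⧸ JE :=
    Ideal.quotientMapₐ JE (IsScalarTower.toAlgHom A C (C ⊗[A] B)) Ideal.le_comap_map
  let fB : (B ⧸ JB) →ₐ[A] (C ⊗[A] B) ⧸ JE :=
    Ideal.quotientMapₐ JE (Algebra.TensorProduct.includeRight : B →ₐ[A] C ⊗[A] B) hB
  have hs : Function.Surjective (Algebra.TensorProduct.productMap fC fB) := fun y => by
    obtain ⟨y, rfl⟩ := Ideal.Quotient.mk_surjective y
    induction y using TensorProduct.induction_on with
    | zero => exact ⟨0, by rw [map_zero]; exact (map_zero (Ideal.Quotient.mk JE)).symm⟩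
    | add a b ha hb =>
      obtain ⟨⟨x, hx⟩, z, hz⟩ := ha, hb
      exact ⟨x + z, by rw [map_add, hx, hz, map_add]⟩
    | tmul c b =>
      refine ⟨Ideal.Quotient.mk IC c ⊗ₜ Ideal.Quotient.mk JB b, ?_⟩
      rw [Algebra.TensorProduct.productMap_apply_tmul]
      show Ideal.Quotient.mk JE (algebraMap C (C ⊗[A] B) c) * Ideal.Quotient.mk JE (1 ⊗ₜ b) = _
      rw [← map_mul, Algebra.TensorProduct.algebraMap_apply, Algebra.TensorProduct.tmul_mul_tmul]
      simp
  have : Algebra.FiniteType A ((C ⧸ IC) ⊗[A] (B ⧸ JB)) :=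
    Algebra.FiniteType.trans hftC (Algebra.FiniteType.baseChange (C ⧸ IC))
  exact Algebra.FiniteType.of_surjective _ hs

theorem baseChange (hJB : I.map (algebraMap A B) = JB) (hIC : IC = I.map (algebraMap A C))
    (hftB : Algebra.FiniteType A (B ⧸ JB)) (hftC : Algebra.FiniteType A (C ⧸ IC))
    (hAB : Permanence.RigFlat A B I JB) {JD : Ideal (Dhat (A := A) IC B)}
    (hJD : IC.map (algebraMap C (Dhat (A := A) IC B)) = JD) :
    Permanence.RigFlat C (Dhat (A := A) IC B) IC JD := by
  let E := C ⊗[A] B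
  let JE : Ideal E := IC.map (algebraMap C E)
  have hJEfg : JE.FG := Ideal.FG.map (IsNoetherian.noetherian IC) _
  have hEn : IsNoetherianRing (E ⧸ JE) := by
    have := finiteType_E hJB hIC hftB hftC
    exact Algebra.FiniteType.isNoetherianRing A _
  have : IsNoetherianRing (Dhat (A := A) IC B) :=
    Completion.NoetherianComplete.isNoetherianRing_adicCompletion JE hJEfg
  refine baseChange_of_univ (ιB := (algebraMap E (Dhat (A := A) IC B)).comp
      (Algebra.TensorProduct.includeRight : B →ₐ[A] E).toRingHom) hJB hIC hJD ?_ ?_ ?_ ?_ hAB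
  · rw [RingHom.comp_assoc, show (Algebra.TensorProduct.includeRight : B →ₐ[A] E).toRingHom.comp (algebraMap A B) =
      algebraMap A E from (Algebra.TensorProduct.includeRight : B →ₐ[A] E).comp_algebraMap, ← IsScalarTower.algebraMap_eq]
  · have hle : JE ≤ JD.comap (algebraMap E (Dhat (A := A) IC B)) := by
      rw [← Ideal.map_le_iff_le_comap, Ideal.map_map, ← IsScalarTower.algebraMap_eq, hJD]
    have := finiteType_E hJB hIC hftB hftC
    let r : (E ⧸ JE) →ₐ[A] Dhat (A := A) IC B ⧸ JD :=
      Ideal.quotientMapₐ JD (IsScalarTower.toAlgHom A E (Dhat (A := A) IC B)) hle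
    refine Algebra.FiniteType.of_surjective r fun y => ?_
    obtain ⟨y, rfl⟩ := Ideal.Quotient.mk_surjective y
    obtain ⟨c, hc⟩ := Base.Trunc.exists_sub_mem hJEfg 1 y
    rw [pow_one, Base.Trunc.completion_map, hJD] at hc
    exact ⟨Ideal.Quotient.mk JE c, (Ideal.Quotient.eq.mpr hc).symm⟩
  · intro W _ fC fB hf hW
    obtain ⟨πE, hπC, hπB⟩ := exists_lift (A := A) fC fB hf
    have hle : JE ≤ (IC.map fC).comap πE := by
      rw [← Ideal.map_le_iff_le_comap, Ideal.map_map, hπC]
    have hπD : (Base.CompletionMap.extend (J := JE) (IC.map fC) πE hle).comp (algebraMap E (Dhat (A := A) IC B)) = πE :=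
      RingHom.ext (Base.CompletionMap.extend_of (J := JE) (IC.map fC) πE hle)
    refine ⟨Base.CompletionMap.extend (J := JE) (IC.map fC) πE hle, ?_, ?_⟩
    · rw [IsScalarTower.algebraMap_eq C E (Dhat (A := A) IC B), ← RingHom.comp_assoc]
      exact (congrArg (fun e => RingHom.comp e (algebraMap C E)) hπD).trans hπC
    · rw [← RingHom.comp_assoc]
      exact (congrArg (fun e => RingHom.comp e (Algebra.TensorProduct.includeRight : B →ₐ[A] E).toRingHom) hπD).trans hπB
  · intro W _ K' hK' f g hle hC hB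
    refine Base.CompletionMap.hom_ext (J := JE) K' hJEfg ?_ (ringHom_ext ?_ ?_)
    · rw [← Ideal.map_le_iff_le_comap, Ideal.map_map, RingHom.comp_assoc, ← IsScalarTower.algebraMap_eq]
      exact hle
    · rw [RingHom.comp_assoc, RingHom.comp_assoc, ← IsScalarTower.algebraMap_eq]
      exact hC
    · rw [RingHom.comp_assoc, RingHom.comp_assoc]
      exact hB

end Completion

end Groth.Agent.Adic.Rig.BaseChange
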