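import Groth.Agent.Adic.FiniteModule
import Groth.Agent.Adic.Base.Tame
import Mathlib.RingTheory.Ideal.KrullsHeightTheorem
import Mathlib.RingTheory.Ideal.GoingDown
import Mathlib.RingTheory.Henselian
import Mathlib.RingTheory.Jacobson.Ring
import Mathlib.RingTheory.Flat.Basic
import Mathlib.RingTheory.KrullDimension.Basic

/-! Rig-closed points of complete Noetherian rings. -/

namespace Groth.Agent.Adic.Rig.Closed

universe u

/-- `q` is maximal among the primes not containing `J`. -/
def IsRigClosed {B : Type*} [CommRing B] (J : Ideal B) (q : PrimeSpectrum B) : Prop :=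
  ¬ J ≤ q.asIdeal ∧ ∀ y : PrimeSpectrum B, q ≤ y → ¬ J ≤ y.asIdeal → y = q

theorem isAdicComplete_of_pow_le {D : Type*} [CommRing D] {J K : Ideal D} [IsAdicComplete J D]
    (hJK : J ≤ K) {k : ℕ} (hk : K ^ k ≤ J) : IsAdicComplete K D := by
  have hk1 : K ^ (k + 1) ≤ J := (Ideal.pow_le_pow_right (Nat.le_succ k)).trans hk
  have hkn : ∀ n, K ^ ((k + 1) * n) ≤ J ^ n := fun n => by
    rw [pow_mul]; exact Ideal.pow_right_mono hk1 n
  have hle : ∀ n, n ≤ (k + 1) * n := fun n => Nat.le_mul_of_pos_left n (Nat.succ_pos k)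
  refine { toIsHausdorff := ⟨fun x hx => IsHausdorff.haus (I := J) inferInstance x fun n => ?_⟩
           toIsPrecomplete := ⟨fun f hf => ?_⟩ }
  · have := hx ((k + 1) * n)
    rw [SModEq.zero, smul_eq_mul, Ideal.mul_top] at this ⊢
    exact hkn n this
  · obtain ⟨L, hL⟩ := IsPrecomplete.prec (I := J) (M := D) inferInstance (f := fun n => f ((k + 1) * n))
      fun {m n} hmn => by
        have := hf (Nat.mul_le_mul_left (k + 1) hmn)
        rw [SModEq.sub_mem, smul_eq_mul, Ideal.mul_top] at this ⊢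
        exact hkn m this
    refine ⟨L, fun n => ?_⟩
    have h1 := hf (hle n)
    have h2 := hL n
    rw [SModEq.sub_mem, smul_eq_mul, Ideal.mul_top] at h1 h2 ⊢
    have := add_mem h1 (Ideal.pow_right_mono hJK n h2)
    rwa [sub_add_sub_cancel] at this

section Domain

variable {D : Type*} [CommRing D] [IsNoetherianRing D] [IsDomain D] {J : Ideal D} [IsAdicComplete J D]
  (hJ : J ≠ ⊥) (hprime : ∀ P : Ideal D, P.IsPrime → P ≠ ⊥ → J ≤ P)

include hJ hprime

theorem isMaximal_of_prime (P : Ideal D) [hP : P.IsPrime] (hP0 : P ≠ ⊥) : P.IsMaximal := by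
  classical
  obtain ⟨M, hM, hPM⟩ := Ideal.exists_le_maximal P hP.ne_top
  suffices P = M by rwa [this]
  by_contra hne
  have hlt : P < M := lt_of_le_of_ne hPM hne
  set S := (Ideal.finite_minimalPrimes_of_isNoetherianRing D J).toFinset
  have hS : ∀ s ∈ S, s.IsPrime ∧ J ≤ s := fun s hs => ((Set.Finite.mem_toFinset _).mp hs).1
  have hnot : ¬ ((M : Set D) ⊆ ⋃ s ∈ (↑S : Set (Ideal D)), (s : Set D)) := by
    intro h
    obtain ⟨s, hs, hMs⟩ := (Ideal.subset_union_prime (f := fun s : Ideal D => s) ⊥ ⊥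
      fun s hs _ _ => (hS s hs).1).mp h
    have h1 : s = M := (hM.eq_of_le (hS s hs).1.ne_top hMs).symm
    obtain ⟨s', hs', hle⟩ := Ideal.exists_minimalPrimes_le (hprime P hP hP0)
    have h2 := ((Set.Finite.mem_toFinset _).mp hs).2 hs'.1 (hle.trans (h1 ▸ hlt.le))
    exact not_le_of_gt hlt ((h1.ge.trans h2).trans hle)
  obtain ⟨x, hxM, hx⟩ := Set.not_subset.mp hnot
  simp only [Set.mem_iUnion, not_exists, Finset.mem_coe, SetLike.mem_coe] at hx
  obtain ⟨Q, hQ, hQM⟩ := Ideal.exists_minimalPrimes_le ((Ideal.span_singleton_le_iff_mem M).mpr hxM)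
  have := hQ.isPrime
  have hxQ : x ∈ Q := hQ.1.2 (Ideal.mem_span_singleton_self x)
  have hx0 : x ≠ 0 := by
    rintro rfl
    obtain ⟨s, hs, -⟩ := Ideal.exists_minimalPrimes_le (hprime P hP hP0)
    exact hx s ((Set.Finite.mem_toFinset _).mpr hs) s.zero_mem
  obtain ⟨s, hs, hsQ⟩ := Ideal.exists_minimalPrimes_le
    (hprime Q inferInstance fun h => hx0 (by rwa [h, Ideal.mem_bot] at hxQ))
  have := hs.isPrime
  have hlt' : s < Q := lt_of_le_of_ne hsQ fun h => hx s ((Set.Finite.mem_toFinset _).mpr hs) (h ▸ hxQ)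
  have h1 := (Ideal.height_add_one_le_of_lt_of_isPrime hlt').trans
    (Ideal.height_le_one_of_isPrincipal_of_mem_minimalPrimes _ _ hQ)
  have h0 : s.height = 0 := by
    rcases eq_or_ne s.height 0 with h | h
    · exact h
    · exact absurd ((add_le_add (ENat.one_le_iff_ne_zero.mpr h) le_rfl).trans h1) (by decide)
  exact hJ (le_bot_iff.mp ((Ideal.height_eq_zero_iff_eq_bot.mp h0) ▸ hs.1.2))

omit hJ hprime in
theorem le_of_isMaximal (m : Ideal D) [hm : m.IsMaximal] : J ≤ m := fun x hx =>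
  Ideal.mem_sInf.mp (IsAdicComplete.le_jacobson_bot J hx) ⟨bot_le, hm⟩

theorem maximal_ne_bot (m : Ideal D) [m.IsMaximal] : m ≠ ⊥ := fun h =>
  hJ (le_bot_iff.mp (h ▸ le_of_isMaximal (J := J) m))

theorem ringKrullDim_eq_one : ringKrullDim D = 1 := by
  have h1 : Ring.KrullDimLE 1 D :=
    Ring.krullDimLE_one_iff_of_noZeroDivisors.mpr fun P hP hPp => isMaximal_of_prime hJ hprime P hP
  refine le_antisymm (Ring.krullDimLE_iff.mp h1) ?_
  rw [ringKrullDim, Order.one_le_krullDim_iff]
  obtain ⟨M, hM⟩ := Ideal.exists_maximal D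
  exact ⟨⟨⊥, Ideal.isPrime_bot⟩, ⟨M, hM.isPrime⟩,
    bot_lt_iff_ne_bot.mpr fun h => maximal_ne_bot hJ hprime M (congrArg PrimeSpectrum.asIdeal h)⟩

theorem mem_minimalPrimes (m : Ideal D) [hm : m.IsMaximal] : m ∈ J.minimalPrimes := by
  obtain ⟨s, hs, hsm⟩ := Ideal.exists_minimalPrimes_le (le_of_isMaximal (J := J) m)
  have := hs.isPrime
  have hs0 : s ≠ ⊥ := fun h => hJ (le_bot_iff.mp (h ▸ hs.1.2))
  exact ((isMaximal_of_prime hJ hprime s hs0).eq_of_le hm.ne_top hsm) ▸ hs

theorem isAdicComplete_radical : IsAdicComplete J.radical D := by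
  obtain ⟨k, hk⟩ := Ideal.exists_radical_pow_le_of_fg J J.radical.fg_of_isNoetherianRing
  exact isAdicComplete_of_pow_le Ideal.le_radical hk

theorem eq_radical (m : Ideal D) [hm : m.IsMaximal] : m = J.radical := by
  classical
  have hc := isAdicComplete_radical hJ hprime
  have hmaxP : ∀ P : Ideal D, P.IsPrime → J ≤ P → P.IsMaximal := fun P hP hJP =>
    isMaximal_of_prime hJ hprime P fun h => hJ (le_bot_iff.mp (h ▸ hJP))
  suffices ∀ m' : Ideal D, m'.IsMaximal → m' = m by
    refine le_antisymm ?_ ((Ideal.IsPrime.radical_le_iff hm.isPrime).mpr (le_of_isMaximal m))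
    rw [Ideal.radical_eq_sInf]
    refine le_sInf fun P ⟨hJP, hP⟩ => (this P (hmaxP P hP hJP)).ge
  intro m' hm'
  by_contra hne
  set S := (Ideal.finite_minimalPrimes_of_isNoetherianRing D J).toFinset.erase m
  have hS : ∀ s ∈ S, s.IsPrime ∧ J ≤ s := fun s hs =>
    ((Set.Finite.mem_toFinset _).mp (Finset.mem_of_mem_erase hs)).1
  have hcop : m ⊔ (∏ s ∈ S, s) = ⊤ := Ideal.sup_prod_eq_top fun s hs => by
    by_contra h
    refine (Finset.ne_of_mem_erase hs) ?_
    have hsmax := hmaxP s (hS s hs).1 (hS s hs).2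
    exact hsmax.eq_of_le hm.ne_top (le_of_le_of_eq le_sup_right (hm.eq_of_le h le_sup_left).symm)
  obtain ⟨a, ha, b, hb, hab⟩ := Submodule.mem_sup.mp (hcop ▸ Submodule.mem_top : (1 : D) ∈ m ⊔ _)
  have hb' : ∀ s ∈ S, b ∈ s := fun s hs => (Ideal.prod_le_inf.trans (Finset.inf_le hs) : (∏ s ∈ S, s) ≤ id s) hb
  have hrad : ∀ z : D, z ∈ m → (∀ s ∈ S, z ∈ s) → z ∈ J.radical := by
    intro z h1 h2
    rw [Ideal.radical_eq_sInf, Ideal.mem_sInf]
    rintro P ⟨hJP, hP⟩
    obtain ⟨s, hs, hsP⟩ := Ideal.exists_minimalPrimes_le hJP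
    by_cases hsm : s = m
    · exact hsP (hsm ▸ h1)
    · exact hsP (h2 s (Finset.mem_erase.mpr ⟨hsm, (Set.Finite.mem_toFinset _).mpr hs⟩))
  have hidem : a ^ 2 - a ∈ J.radical := by
    have : a ^ 2 - a = -(a * b) := by linear_combination a * hab
    rw [this]
    exact neg_mem (hrad _ (m.mul_mem_right _ ha) fun s hs => s.mul_mem_left _ (hb' s hs))
  let f : Polynomial D := Polynomial.X ^ 2 - Polynomial.X
  have hu : IsUnit (Ideal.Quotient.mk J.radical (f.derivative.eval a)) := by
    refine IsUnit.of_mul_eq_one (Ideal.Quotient.mk J.radical (f.derivative.eval a)) ?_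
    rw [← map_mul, ← map_one (Ideal.Quotient.mk J.radical), Ideal.Quotient.eq]
    have : f.derivative.eval a * f.derivative.eval a - 1 = 4 * (a ^ 2 - a) := by
      simp [f]; ring
    rw [this]
    exact Ideal.mul_mem_left _ _ hidem
  have hmonic : f.Monic := Polynomial.monic_X_pow_sub (by rw [Polynomial.degree_X]; norm_num)
  obtain ⟨e, he, hea⟩ := HenselianRing.is_henselian (I := J.radical) f hmonic a (by simpa [f] using hidem) hu
  have he' : e * (e - 1) = 0 := by
    have : e ^ 2 - e = 0 := by simpa [f, Polynomial.IsRoot] using he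
    linear_combination this
  have hradm : J.radical ≤ m := (Ideal.IsPrime.radical_le_iff hm.isPrime).mpr (le_of_isMaximal m)
  have hradm' : J.radical ≤ m' := (Ideal.IsPrime.radical_le_iff hm'.isPrime).mpr (le_of_isMaximal m')
  rcases mul_eq_zero.mp he' with h | h
  · subst h
    have ha' : a ∈ m' := by simpa using hradm' hea
    have hb'' : b ∈ m' := hb' m' (Finset.mem_erase.mpr ⟨hne, (Set.Finite.mem_toFinset _).mpr (mem_minimalPrimes hJ hprime m')⟩)
    exact hm'.ne_top ((Ideal.eq_top_iff_one m').mpr (hab ▸ add_mem ha' hb''))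
  · rw [sub_eq_zero] at h
    subst h
    have := add_mem (hradm hea) ha
    rw [sub_add_cancel] at this
    exact hm.ne_top ((Ideal.eq_top_iff_one m).mpr this)

end Domain

section Quotient

variable {B : Type*} [CommRing B] [IsNoetherianRing B] {J : Ideal B} [IsAdicComplete J B]

theorem isAdicComplete_quotient (q : Ideal B) : IsAdicComplete (J.map (Ideal.Quotient.mk q)) (B ⧸ q) := by
  have h := FiniteModule.isAdicComplete_of_finite (I := J) (M := B ⧸ q)
  rw [← Ideal.Quotient.algebraMap_eq]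
  exact { toIsHausdorff := IsHausdorff.map_algebraMap_iff.mpr h.toIsHausdorff
          toIsPrecomplete := IsPrecomplete.map_algebraMap_iff.mpr h.toIsPrecomplete }

variable {q : PrimeSpectrum B} (hq : IsRigClosed J q)

include hq in
omit [IsNoetherianRing B] [IsAdicComplete J B] in
theorem map_ne_bot : J.map (Ideal.Quotient.mk q.asIdeal) ≠ ⊥ := fun h => hq.1 (by
  rw [Ideal.map_eq_bot_iff_le_ker, Ideal.mk_ker] at h; exact h)

include hq in
omit [IsNoetherianRing B] [IsAdicComplete J B] in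
theorem le_of_prime_quotient (P : Ideal (B ⧸ q.asIdeal)) (hP : P.IsPrime) (hP0 : P ≠ ⊥) :
    J.map (Ideal.Quotient.mk q.asIdeal) ≤ P := by
  refine Ideal.map_le_iff_le_comap.mpr ?_
  by_contra h
  have h1 : (⟨P.comap (Ideal.Quotient.mk q.asIdeal), inferInstance⟩ : PrimeSpectrum B) = q :=
    hq.2 _ (fun x hx => by
      show Ideal.Quotient.mk q.asIdeal x ∈ P
      rw [Ideal.Quotient.eq_zero_iff_mem.mpr hx]; exact P.zero_mem) h
  refine hP0 ?_
  rw [← Ideal.map_comap_of_surjective _ Ideal.Quotient.mk_surjective P,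
    show P.comap (Ideal.Quotient.mk q.asIdeal) = q.asIdeal from congrArg PrimeSpectrum.asIdeal h1,
    Ideal.map_quotient_self]

include hq in
theorem spec : ringKrullDim (B ⧸ q.asIdeal) = 1 ∧
    (∀ m : Ideal (B ⧸ q.asIdeal), m.IsMaximal → m = (J.map (Ideal.Quotient.mk q.asIdeal)).radical) ∧
    IsAdicComplete (J.map (Ideal.Quotient.mk q.asIdeal)).radical (B ⧸ q.asIdeal) := by
  have := isAdicComplete_quotient (J := J) q.asIdeal
  exact ⟨ringKrullDim_eq_one (map_ne_bot hq) (le_of_prime_quotient hq),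
    fun m _ => eq_radical (map_ne_bot hq) (le_of_prime_quotient hq) m,
    isAdicComplete_radical (map_ne_bot hq) (le_of_prime_quotient hq)⟩

include hq in
omit [IsAdicComplete J B] [IsNoetherianRing B] in
theorem isMaximal_of_lt [IsNoetherianRing B] [IsAdicComplete J B] {P : Ideal B} [P.IsPrime]
    (hle : q.asIdeal ≤ P) (hJ : J ≤ P) : P.IsMaximal := by
  have := isAdicComplete_quotient (J := J) q.asIdeal
  have hker : RingHom.ker (Ideal.Quotient.mk q.asIdeal) ≤ P := by rwa [Ideal.mk_ker]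
  have hP' : (P.map (Ideal.Quotient.mk q.asIdeal)).IsPrime := Ideal.map_isPrime_of_surjective Ideal.Quotient.mk_surjective hker
  have hne : P.map (Ideal.Quotient.mk q.asIdeal) ≠ ⊥ := fun h => map_ne_bot hq (le_bot_iff.mp (h ▸ Ideal.map_mono hJ))
  have := isMaximal_of_prime (map_ne_bot hq) (le_of_prime_quotient hq) _ hne
  have h' := Ideal.comap_isMaximal_of_surjective (Ideal.Quotient.mk q.asIdeal) Ideal.Quotient.mk_surjective (K := P.map (Ideal.Quotient.mk q.asIdeal))
  rwa [Ideal.comap_map_of_surjective _ Ideal.Quotient.mk_surjective, ← RingHom.ker_eq_comap_bot,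
    sup_eq_left.mpr hker] at h'

omit [IsAdicComplete J B] in
theorem exists_ge [IsAdicComplete J B] {p : Ideal B} [hp : p.IsPrime] (hJ : ¬ J ≤ p) :
    ∃ q : PrimeSpectrum B, p ≤ q.asIdeal ∧ IsRigClosed J q := by
  obtain ⟨M, ⟨hpM, hM, hJM⟩, hmax⟩ := set_has_maximal_iff_noetherian.mpr inferInstance
    {P : Ideal B | p ≤ P ∧ P.IsPrime ∧ ¬ J ≤ P} ⟨p, le_rfl, hp, hJ⟩
  refine ⟨⟨M, hM⟩, hpM, hJM, fun y hy hJy => PrimeSpectrum.ext ?_⟩
  by_contra hne
  exact hmax y.asIdeal ⟨hpM.trans hy, y.isPrime, hJy⟩ (lt_of_le_of_ne hy fun h => hne h.symm)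

end Quotient

section Finite

variable {A B : Type u} [CommRing A] [CommRing B] [Algebra A B]

theorem finite_of_finite_quotient {M : Type*} [AddCommGroup M] [Module A M] {I : Ideal A} [IsPrecomplete I A]
    [IsHausdorff I M] (h : Module.Finite A (M ⧸ (I • ⊤ : Submodule A M))) : Module.Finite A M := by
  obtain ⟨n, g, hg⟩ := Module.Finite.exists_fin' A (M ⧸ (I • ⊤ : Submodule A M))
  obtain ⟨f, hf⟩ := Module.projective_lifting_property (Submodule.mkQ _) g (Submodule.mkQ_surjective _)
  have := FiniteModule.isPrecomplete_pi (I := I) n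
  exact Module.Finite.of_surjective f (surjective_of_mkQ_comp_surjective (I := I) (by rw [hf]; exact hg))

theorem finite_field {K : Type u} [Field K] [Algebra A K] [Algebra.FiniteType A K]
    (h : (RingHom.ker (algebraMap A K)).IsMaximal) : Module.Finite A K := by
  let _ := Ideal.Quotient.field (RingHom.ker (algebraMap A K))
  let _ : Algebra (A ⧸ RingHom.ker (algebraMap A K)) K := (RingHom.kerLift (algebraMap A K)).toAlgebra
  have : IsScalarTower A (A ⧸ RingHom.ker (algebraMap A K)) K := IsScalarTower.of_algebraMap_eq' rfl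
  have : Algebra.FiniteType (A ⧸ RingHom.ker (algebraMap A K)) K :=
    Algebra.FiniteType.of_restrictScalars_finiteType A _ _
  have := finite_of_finite_type_of_isJacobsonRing (A ⧸ RingHom.ker (algebraMap A K)) K
  exact Module.Finite.trans (A ⧸ RingHom.ker (algebraMap A K)) K

variable {I : Ideal A} (hft : Algebra.FiniteType A (B ⧸ I.map (algebraMap A B)))

include hft in
theorem finiteType_quotient {m : Ideal B} (hm : I.map (algebraMap A B) ≤ m) : Algebra.FiniteType A (B ⧸ m) :=
  Algebra.FiniteType.of_surjective (Ideal.Quotient.factorₐ A hm) (Ideal.Quotient.factor_surjective hm)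

theorem ker_algebraMap_quotient (m : Ideal B) :
    RingHom.ker (algebraMap A (B ⧸ m)) = m.comap (algebraMap A B) := by
  ext x
  exact Ideal.Quotient.eq_zero_iff_mem

variable [IsNoetherianRing B] [IsAdicComplete (I.map (algebraMap A B)) B] {q : PrimeSpectrum B}
  (hq : IsRigClosed (I.map (algebraMap A B)) q)

omit hft in
theorem map_le_of_isMaximal (m : Ideal B) [hm : m.IsMaximal] : I.map (algebraMap A B) ≤ m := fun x hx =>
  Ideal.mem_sInf.mp (IsAdicComplete.le_jacobson_bot (I.map (algebraMap A B)) hx) ⟨bot_le, hm⟩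

include hft hq in
/-- Finiteness of residue fields implies finiteness. -/
theorem finite_of_residue [IsAdicComplete I A] (m : Ideal B) [hm : m.IsMaximal] (hqm : q.asIdeal ≤ m)
    (hfin : Module.Finite A (B ⧸ m)) : Module.Finite A (B ⧸ q.asIdeal) := by
  classical
  set J := I.map (algebraMap A B)
  have hmap : (J.map (Ideal.Quotient.mk q.asIdeal)) = I.map (algebraMap A (B ⧸ q.asIdeal)) :=
    Ideal.map_map _ _
  have hD := isAdicComplete_quotient (J := J) q.asIdeal
  rw [hmap] at hD
  have : IsHausdorff I (B ⧸ q.asIdeal) := IsHausdorff.map_algebraMap_iff.mp hD.toIsHausdorff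
  refine finite_of_finite_quotient (I := I) ?_
  let C := B ⧸ (q.asIdeal ⊔ J)
  have : Algebra.FiniteType A C := finiteType_quotient hft le_sup_right
  have hint : Algebra.IsIntegral A C := ⟨fun x => by
    obtain ⟨x, rfl⟩ := Ideal.Quotient.mk_surjective x
    obtain ⟨p, hp, hpx⟩ := Algebra.IsIntegral.isIntegral (R := A) (Ideal.Quotient.mk m x)
    have hy : Polynomial.aeval x p ∈ m := by
      rw [← Ideal.Quotient.eq_zero_iff_mem, ← hpx, ← Polynomial.aeval_def]
      exact (Polynomial.aeval_algHom_apply (Ideal.Quotient.mkₐ A m) x p).symm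
    have hrad : Polynomial.aeval x p ∈ (q.asIdeal ⊔ J).radical := by
      rw [Ideal.radical_eq_sInf, Ideal.mem_sInf]
      rintro P ⟨hle, hP⟩
      have hPmax := isMaximal_of_lt hq (le_sup_left.trans hle) (le_sup_right.trans hle)
      suffices P = m from this ▸ hy
      obtain ⟨-, h, -⟩ := spec hq
      have hker : ∀ {Q : Ideal B}, q.asIdeal ≤ Q → RingHom.ker (Ideal.Quotient.mk q.asIdeal) ≤ Q :=
        fun h => by rwa [Ideal.mk_ker]
      have hmax : ∀ {Q : Ideal B}, q.asIdeal ≤ Q → Q.IsMaximal →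
          Q.map (Ideal.Quotient.mk q.asIdeal) = (J.map (Ideal.Quotient.mk q.asIdeal)).radical := fun hle hQ =>
        h _ ((Ideal.map_eq_top_or_isMaximal_of_surjective _ Ideal.Quotient.mk_surjective hQ).resolve_left fun htop => by
          have := congrArg (Ideal.comap (Ideal.Quotient.mk q.asIdeal)) htop
          rw [Ideal.comap_map_of_surjective _ Ideal.Quotient.mk_surjective, ← RingHom.ker_eq_comap_bot,
            sup_eq_left.mpr (hker hle), Ideal.comap_top] at this
          exact hQ.ne_top this)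
      have := congrArg (Ideal.comap (Ideal.Quotient.mk q.asIdeal))
        ((hmax (le_sup_left.trans hle) hPmax).trans (hmax hqm hm).symm)
      rwa [Ideal.comap_map_of_surjective _ Ideal.Quotient.mk_surjective,
        Ideal.comap_map_of_surjective _ Ideal.Quotient.mk_surjective, ← RingHom.ker_eq_comap_bot,
        sup_eq_left.mpr (hker (le_sup_left.trans hle)), sup_eq_left.mpr (hker hqm)] at this
    obtain ⟨k, hk⟩ := hrad
    refine ⟨p ^ k, hp.pow k, ?_⟩
    rw [← Polynomial.aeval_def, map_pow, show Polynomial.aeval (Ideal.Quotient.mk _ x) p =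
      Ideal.Quotient.mk (q.asIdeal ⊔ J) (Polynomial.aeval x p) from
        Polynomial.aeval_algHom_apply (Ideal.Quotient.mkₐ A _) x p, ← map_pow, Ideal.Quotient.eq_zero_iff_mem]
    exact hk⟩
  have : Module.Finite A C := Algebra.IsIntegral.finite
  let ψ : (B ⧸ q.asIdeal) →ₗ[A] C := (Ideal.Quotient.factorₐ A (le_sup_left (b := J))).toLinearMap
  let mk' : C →ₗ[A] (B ⧸ q.asIdeal) ⧸ (I • ⊤ : Submodule A (B ⧸ q.asIdeal)) :=
    (Submodule.liftQ ((q.asIdeal ⊔ J).restrictScalars A)
      ((Submodule.mkQ _).comp (Ideal.Quotient.mkₐ A q.asIdeal).toLinearMap) (by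
      intro y hy
      rw [LinearMap.mem_ker, LinearMap.comp_apply, Submodule.mkQ_apply, Submodule.Quotient.mk_eq_zero,
        Ideal.smul_top_eq_map, Submodule.restrictScalars_mem, ← hmap]
      obtain ⟨a, ha, b, hb, rfl⟩ := Submodule.mem_sup.mp (Submodule.restrictScalars_mem A _ y |>.mp hy)
      show Ideal.Quotient.mk q.asIdeal (a + b) ∈ _
      rw [map_add, Ideal.Quotient.eq_zero_iff_mem.mpr ha, zero_add]
      exact Ideal.mem_map_of_mem _ hb)).comp
      ((Submodule.Quotient.restrictScalarsEquiv A (q.asIdeal ⊔ J)).symm.toLinearMap)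
  refine Module.Finite.of_surjective mk' fun z => ?_
  obtain ⟨z, rfl⟩ := Submodule.Quotient.mk_surjective _ z
  obtain ⟨z, rfl⟩ := Ideal.Quotient.mk_surjective z
  exact ⟨Ideal.Quotient.mk _ z, rfl⟩

omit hft in
include hq in
theorem isRigClosed_comap_of_finite (hfin : Module.Finite A (B ⧸ q.asIdeal)) :
    IsRigClosed I (PrimeSpectrum.comap (algebraMap A B) q) := by
  refine ⟨fun h => hq.1 (Ideal.map_le_iff_le_comap.mpr h), fun y hy hIy => ?_⟩
  obtain ⟨P, -, hP, hPy⟩ := Ideal.exists_ideal_over_prime_of_isIntegral y.asIdeal (⊥ : Ideal (B ⧸ q.asIdeal))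
    (by rw [← RingHom.ker_eq_comap_bot, ker_algebraMap_quotient]; exact hy)
  have h1 : (⟨P.comap (Ideal.Quotient.mk q.asIdeal), inferInstance⟩ : PrimeSpectrum B) = q :=
    hq.2 _ (fun x hx => by
      show Ideal.Quotient.mk q.asIdeal x ∈ P
      rw [Ideal.Quotient.eq_zero_iff_mem.mpr hx]; exact P.zero_mem) fun h => hIy (by
      rw [← hPy]
      exact fun a ha => h (Ideal.mem_map_of_mem _ ha))
  refine PrimeSpectrum.ext ?_
  have h2 := congrArg (Ideal.comap (algebraMap A B)) (congrArg PrimeSpectrum.asIdeal h1)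
  rw [← hPy, PrimeSpectrum.comap_asIdeal, ← h2, Ideal.comap_comap]
  rfl

include hft in
theorem finite_residue_of_comap [IsNoetherianRing A] [IsAdicComplete I A] {p : PrimeSpectrum A}
    (hp : IsRigClosed I p) (m : Ideal B) [hm : m.IsMaximal] (hpm : p.asIdeal ≤ m.comap (algebraMap A B)) :
    Module.Finite A (B ⧸ m) := by
  let _ := Ideal.Quotient.field m
  have hJm : I.map (algebraMap A B) ≤ m := map_le_of_isMaximal (I := I) m
  have := finiteType_quotient hft hJm
  refine finite_field ?_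
  rw [ker_algebraMap_quotient]
  have := Ideal.IsPrime.comap (algebraMap A B) (K := m)
  exact isMaximal_of_lt hp hpm (Ideal.map_le_iff_le_comap.mp hJm)

end Finite

end Groth.Agent.Adic.Rig.Closed
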