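import Groth.Agent.Adic.Rig.Closed
import Groth.Agent.Adic.Base.Trunc
import Groth.Agent.Completion.NoetherianComplete
import Groth.Agent.Flat.Criteria
import Mathlib.RingTheory.AdicCompletion.AsTensorProduct
import Mathlib.RingTheory.IntegralClosure.IsIntegralClosure.Basic

/-! Completed principal localizations of complete Noetherian rings. -/

namespace Groth.Agent.Adic.Rig.CompletedLoc

open IsLocalRing TensorProduct

universe u

variable {B : Type u} [CommRing B] [IsNoetherianRing B] (J : Ideal B) (g : B)

/-- The completed localization. -/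
abbrev K : Type u := AdicCompletion (J.map (algebraMap B (Localization.Away g))) (Localization.Away g)

theorem isNoetherianRing_loc : IsNoetherianRing (Localization.Away g) :=
  IsLocalization.isNoetherianRing (Submonoid.powers g) _ inferInstance

theorem isNoetherianRing : IsNoetherianRing (K J g) := by
  have := isNoetherianRing_loc g
  exact Completion.NoetherianComplete.isNoetherianRing_adicCompletion _ (IsNoetherian.noetherian _)

theorem isAdicComplete : IsAdicComplete (J.map (algebraMap B (K J g))) (K J g) :=
  Base.Trunc.isAdicComplete_completion (IsNoetherian.noetherian J)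

theorem flat : Module.Flat B (K J g) := by
  have := isNoetherianRing_loc g
  have : Module.Flat (Localization.Away g) (K J g) := AdicCompletion.flat_of_isNoetherian _
  have : Module.Flat B (Localization.Away g) := IsLocalization.flat _ (Submonoid.powers g)
  exact Module.Flat.trans B (Localization.Away g) _

theorem map_eq : J.map (algebraMap B (K J g)) =
    (J.map (algebraMap B (Localization.Away g))).map (algebraMap (Localization.Away g) (K J g)) :=
  Base.Trunc.completion_map.symm

theorem finiteType_base : Algebra.FiniteType B (K J g ⧸ J.map (algebraMap B (K J g))) := by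
  have h1 : Algebra.FiniteType B (Localization.Away g) :=
    IsLocalization.finiteType_of_monoid_fg (Submonoid.powers g) _
  refine Algebra.FiniteType.of_surjective ((Ideal.Quotient.mkₐ B _).comp
    (IsScalarTower.toAlgHom B (Localization.Away g) (K J g))) fun y => ?_
  obtain ⟨y, rfl⟩ := Ideal.Quotient.mk_surjective y
  obtain ⟨c, hc⟩ := Base.Trunc.exists_sub_mem (IsNoetherian.noetherian _) 1 y
  rw [pow_one, ← map_eq] at hc
  exact ⟨c, (Ideal.Quotient.eq.mpr hc).symm⟩

theorem finiteType {A : Type u} [CommRing A] [Algebra A B] {I : Ideal A} (hJ : J = I.map (algebraMap A B))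
    (hft : Algebra.FiniteType A (B ⧸ J)) :
    Algebra.FiniteType A (K J g ⧸ I.map (algebraMap A (K J g))) := by
  subst hJ
  have hK : (I.map (algebraMap A B)).map (algebraMap B (K (I.map (algebraMap A B)) g)) =
      I.map (algebraMap A (K (I.map (algebraMap A B)) g)) :=
    (Ideal.map_map _ _).trans (congrArg (fun f => Ideal.map f I) (IsScalarTower.algebraMap_eq A B _).symm)
  set J := I.map (algebraMap A B)
  suffices Algebra.FiniteType A (K J g ⧸ J.map (algebraMap B (K J g))) from
    this.equiv (Ideal.quotientEquivAlgOfEq A hK)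
  let f : (B ⧸ J) →+* K J g ⧸ J.map (algebraMap B (K J g)) :=
    Ideal.quotientMap _ (algebraMap B (K J g)) Ideal.le_comap_map
  have hf : f.FiniteType := by
    refine RingHom.FiniteType.of_comp_finiteType (f := Ideal.Quotient.mk J) (g := f) ?_
    have h := RingHom.finiteType_algebraMap.mpr (finiteType_base J g)
    exact h
  have h := hf.comp (RingHom.finiteType_algebraMap.mpr hft)
  rw [← RingHom.finiteType_algebraMap]
  refine (show f.comp (algebraMap A (B ⧸ J)) = algebraMap A (K J g ⧸ J.map (algebraMap B (K J g))) from
    RingHom.ext fun a => ?_) ▸ h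
  exact congrArg (Ideal.Quotient.mk _) (IsScalarTower.algebraMap_apply A B (K J g) a).symm

variable [IsAdicComplete J B] (p : Ideal B) [p.IsPrime] (hg : IsUnit (Ideal.Quotient.mk p g))

include hg in
/-- `p K` is prime with quotient `B / p` when `g` is a unit modulo `p`. -/
theorem bijective : Function.Bijective
    (Ideal.quotientMap (p.map (algebraMap B (K J g))) (algebraMap B (K J g)) Ideal.le_comap_map) := by
  have := isNoetherianRing J g
  have := isNoetherianRing_loc g
  have hK := isAdicComplete J g
  have hq := Closed.isAdicComplete_quotient (J := J) p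
  let l : Localization.Away g →+* B ⧸ p := IsLocalization.Away.lift g hg
  have hl : l.comp (algebraMap B (Localization.Away g)) = Ideal.Quotient.mk p := RingHom.ext (IsLocalization.Away.lift_eq g hg)
  let Θ := Base.CompletionMap.extend (J := J.map (algebraMap B (Localization.Away g))) (J.map (Ideal.Quotient.mk p)) l
    (Ideal.map_le_iff_le_comap.mp (le_of_eq (by rw [Ideal.map_map, hl])))
  have hΘ : ∀ b : B, Θ (algebraMap B (K J g) b) = Ideal.Quotient.mk p b := fun b => by
    rw [IsScalarTower.algebraMap_apply B (Localization.Away g) (K J g)]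
    exact (Base.CompletionMap.extend_of (J := J.map (algebraMap B (Localization.Away g))) (J.map (Ideal.Quotient.mk p)) l _ _).trans (RingHom.congr_fun hl b)
  constructor
  · rw [injective_iff_map_eq_zero]
    intro x hx
    obtain ⟨x, rfl⟩ := Ideal.Quotient.mk_surjective x
    rw [Ideal.quotientMap_mk, Ideal.Quotient.eq_zero_iff_mem] at hx
    rw [← hΘ]
    have hle : p.map (algebraMap B (K J g)) ≤ RingHom.ker Θ := Ideal.map_le_iff_le_comap.mpr fun y hy => by
      rw [Ideal.mem_comap, RingHom.mem_ker, hΘ, Ideal.Quotient.eq_zero_iff_mem]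
      exact hy
    exact hle hx
  · set P := p.map (algebraMap B (K J g))
    have hP := Closed.isAdicComplete_quotient (J := J.map (algebraMap B (K J g))) P
    rw [Ideal.map_map] at hP
    let φ : B →+* K J g ⧸ P := (Ideal.Quotient.mk P).comp (algebraMap B (K J g))
    suffices Function.Surjective φ by
      intro y
      obtain ⟨b, hb⟩ := this y
      exact ⟨Ideal.Quotient.mk p b, hb⟩
    have : IsHausdorff (J.map φ) (K J g ⧸ P) := hP.toIsHausdorff
    refine surjective_of_mk_map_comp_surjective φ (I := J) fun y => ?_
    obtain ⟨y, rfl⟩ := Ideal.Quotient.mk_surjective y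
    obtain ⟨y, rfl⟩ := Ideal.Quotient.mk_surjective y
    obtain ⟨c, hc⟩ := Base.Trunc.exists_sub_mem (IsNoetherian.noetherian _) 1 y
    rw [pow_one, ← map_eq] at hc
    obtain ⟨k, a, hck⟩ := IsLocalization.Away.surj g c
    obtain ⟨u, hu⟩ := hg.exists_right_inv
    obtain ⟨u, rfl⟩ := Ideal.Quotient.mk_surjective u
    refine ⟨a * u ^ k, Ideal.Quotient.eq.mpr ?_⟩
    have h1 : φ (a * u ^ k) = Ideal.Quotient.mk P (algebraMap (Localization.Away g) (K J g) c) := by
      have hgu : φ g * φ u = 1 := by
        rw [← map_mul, ← map_one φ, ← sub_eq_zero, ← map_sub]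
        refine Ideal.Quotient.eq_zero_iff_mem.mpr (Ideal.mem_map_of_mem _ ?_)
        rwa [← map_mul, ← map_one (Ideal.Quotient.mk p), Ideal.Quotient.eq] at hu
      have ha : φ a = Ideal.Quotient.mk P (algebraMap (Localization.Away g) (K J g) c) * φ g ^ k := by
        show Ideal.Quotient.mk P (algebraMap B (K J g) a) = _
        rw [IsScalarTower.algebraMap_apply B (Localization.Away g) (K J g), ← hck, map_mul, map_mul, map_pow, map_pow]
        rfl
      rw [map_mul, map_pow, ha, mul_assoc, ← mul_pow, hgu, one_pow, mul_one]
    rw [h1, ← map_sub, show J.map φ = (J.map (algebraMap B (K J g))).map (Ideal.Quotient.mk P) from (Ideal.map_map _ _).symm]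
    refine Ideal.mem_map_of_mem _ ?_
    rw [← neg_sub]
    exact neg_mem hc

include hg in
theorem isPrime : (p.map (algebraMap B (K J g))).IsPrime := by
  have e := RingEquiv.ofBijective _ (bijective J g p hg)
  have : IsDomain (K J g ⧸ p.map (algebraMap B (K J g))) := e.symm.toMulEquiv.isDomain
  exact (Ideal.Quotient.isDomain_iff_prime _).mp this

include hg in
theorem eq_map (P : Ideal (K J g)) [P.IsPrime] (hP : P.comap (algebraMap B (K J g)) = p) :
    P = p.map (algebraMap B (K J g)) := by
  have hle : p.map (algebraMap B (K J g)) ≤ P := Ideal.map_le_iff_le_comap.mpr hP.ge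
  refine le_antisymm (fun x hx => ?_) hle
  obtain ⟨b, hb⟩ := (bijective J g p hg).2 (Ideal.Quotient.mk _ x)
  obtain ⟨b, rfl⟩ := Ideal.Quotient.mk_surjective b
  rw [Ideal.quotientMap_mk, Ideal.Quotient.eq] at hb
  have hbP : b ∈ p := hP ▸ Ideal.mem_comap.mpr (by simpa using add_mem (hle hb) hx)
  have := sub_mem (Ideal.mem_map_of_mem (algebraMap B (K J g)) hbP) hb
  simpa using this

omit J g in
/-- Flatness over `R` from flatness over `A` when the maximal ideal of `R` comes from `A`. -/
theorem flat_of_map_eq {A R N : Type u} [CommRing A] [CommRing R] [IsLocalRing R] [IsNoetherianRing R]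
    [CommRing N] [IsNoetherianRing N] [Algebra A R] [Algebra R N] [Algebra A N] [IsScalarTower A R N]
    [Module.Flat A N] (p : Ideal A) (hp : p.map (algebraMap A R) = maximalIdeal R)
    (hloc : (maximalIdeal R).map (algebraMap R N) ≤ Ideal.jacobson ⊥) : Module.Flat R N := by
  refine Flat.Criteria.local_criterion (S := N) (maximalIdeal R) hloc ?_ ?_
  · have hmem : ∀ x : p, algebraMap A R x.1 ∈ maximalIdeal R := fun x => hp ▸ Ideal.mem_map_of_mem _ x.2
    let Φ : p ⊗[A] N →+ maximalIdeal R ⊗[R] N := TensorProduct.liftAddHom
      (AddMonoidHom.mk' (fun x : p => ((TensorProduct.mk R (maximalIdeal R) N) ⟨_, hmem x⟩).toAddMonoidHom)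
        fun x y => by
          ext n
          simp only [LinearMap.toAddMonoidHom_coe, AddMonoidHom.add_apply, TensorProduct.mk_apply, ← TensorProduct.add_tmul]
          exact congrArg (· ⊗ₜ[R] n) (Subtype.ext (map_add (algebraMap A R) x.1 y.1)))
      fun a x n => by
        change (⟨algebraMap A R (a • x : p).1, hmem _⟩ : maximalIdeal R) ⊗ₜ[R] n = ⟨_, hmem x⟩ ⊗ₜ[R] (a • n)
        rw [← algebraMap_smul R a n, ← TensorProduct.smul_tmul]
        exact congrArg (· ⊗ₜ[R] n) (Subtype.ext (by simp [Algebra.smul_def]))
    have hΦ : ∀ (x : p) (n : N), Φ (x ⊗ₜ n) = (⟨_, hmem x⟩ : maximalIdeal R) ⊗ₜ[R] n := fun x n => rfl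
    have hsurj : Function.Surjective Φ := by
      intro z
      induction z using TensorProduct.induction_on with
      | zero => exact ⟨0, map_zero _⟩
      | add a b ha hb =>
        obtain ⟨⟨a, rfl⟩, b, rfl⟩ := ha, hb
        exact ⟨a + b, map_add _ _ _⟩
      | tmul m n =>
        obtain ⟨m, hm⟩ := m
        have hm' : m ∈ Ideal.span (algebraMap A R '' p) := (hp.symm.le hm : m ∈ p.map (algebraMap A R))
        suffices ∀ n : N, ∃ (h : m ∈ maximalIdeal R) (z : p ⊗[A] N), Φ z = (⟨m, h⟩ : maximalIdeal R) ⊗ₜ[R] n by
          obtain ⟨_, z, hz⟩ := this n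
          exact ⟨z, hz⟩
        clear hm
        induction hm' using Submodule.span_induction with
        | mem y hy =>
          obtain ⟨x, hx, rfl⟩ := hy
          exact fun n => ⟨hmem ⟨x, hx⟩, ⟨x, hx⟩ ⊗ₜ n, hΦ _ n⟩
        | zero => exact fun n => ⟨zero_mem _, 0, by rw [map_zero]; exact (TensorProduct.zero_tmul _ n).symm⟩
        | add y z _ _ hy hz =>
          intro n
          obtain ⟨h1, a, ha⟩ := hy n
          obtain ⟨h2, b, hb⟩ := hz n
          exact ⟨add_mem h1 h2, a + b, by rw [map_add, ha, hb, ← TensorProduct.add_tmul]; rfl⟩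
        | smul r y _ hy =>
          intro n
          obtain ⟨h1, a, ha⟩ := hy (r • n)
          exact ⟨Ideal.mul_mem_left _ r h1, a, by rw [ha, ← TensorProduct.smul_tmul]; rfl⟩
    rw [injective_iff_map_eq_zero]
    intro z hz
    obtain ⟨w, rfl⟩ := hsurj z
    have hinj : Function.Injective (p.subtype.rTensor N) :=
      Module.Flat.rTensor_preserves_injective_linearMap _ Subtype.val_injective
    have hkey : ∀ w, TensorProduct.lid R N ((maximalIdeal R).subtype.rTensor N (Φ w)) =
        TensorProduct.lid A N (p.subtype.rTensor N w) := fun w => by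
      induction w using TensorProduct.induction_on with
      | zero => simp
      | add a b ha hb => simp only [map_add, ha, hb]
      | tmul x n => simp [hΦ]
    have : w = 0 := by
      apply hinj
      apply (TensorProduct.lid A N).injective
      rw [← hkey, hz, map_zero, map_zero, map_zero]
    rw [this, map_zero]
  · let := Ideal.Quotient.field (maximalIdeal R)
    infer_instance

end Groth.Agent.Adic.Rig.CompletedLoc
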