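import Groth.Agent.Adic.Rig.Shrink
import Mathlib.RingTheory.Flat.Localization
import Mathlib.RingTheory.Flat.FaithfullyFlat.Algebra
import Mathlib.RingTheory.RingHom.Flat

/-! Maps of completed localizations and permanence of rig-flatness. -/

namespace Groth.Agent.Adic.Rig.Permanence

open IsLocalRing TensorProduct CompletedLoc

universe u

/-- `A → B` is rig-flat for the ideals `I`, `J`. -/
def RigFlat (A B : Type u) [CommRing A] [CommRing B] [Algebra A B] (I : Ideal A) (J : Ideal B) : Prop :=
  ∀ (f : A) (ψ : K I f →+* K J (algebraMap A B f)),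
    ψ.comp (algebraMap (Localization.Away f) (K I f)) =
      (algebraMap (Localization.Away (algebraMap A B f)) (K J (algebraMap A B f))).comp
        (Localization.awayMap (algebraMap A B) f) →
    ∀ q : PrimeSpectrum (K J (algebraMap A B f)),
      Closed.IsRigClosed ((J.map (algebraMap B (Localization.Away (algebraMap A B f)))).map
        (algebraMap (Localization.Away (algebraMap A B f)) (K J (algebraMap A B f)))) q →
      ((algebraMap (K J (algebraMap A B f)) (Localization.AtPrime q.asIdeal)).comp ψ).Flat

section Maps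

variable {A B : Type u} [CommRing A] [CommRing B] {φ : A →+* B} {I : Ideal A} {J : Ideal B}

theorem exists_map [IsNoetherianRing B] (φ : A →+* B) (hIJ : I.map φ ≤ J) (f : A) (g : B)
    (hu : IsUnit (algebraMap B (Localization.Away g) (φ f))) :
    ∃ θ : K I f →+* K J g, θ.comp (algebraMap A (K I f)) = (algebraMap B (K J g)).comp φ := by
  have := CompletedLoc.isAdicComplete J g
  let l : Localization.Away f →+* Localization.Away g :=
    IsLocalization.Away.lift f (g := (algebraMap B (Localization.Away g)).comp φ) hu
  have hl : l.comp (algebraMap A (Localization.Away f)) = (algebraMap B (Localization.Away g)).comp φ :=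
    RingHom.ext (IsLocalization.Away.lift_eq f hu)
  let g₀ : Localization.Away f →+* K J g := (algebraMap (Localization.Away g) (K J g)).comp l
  have h₀ : g₀.comp (algebraMap A (Localization.Away f)) = (algebraMap B (K J g)).comp φ := by
    rw [RingHom.comp_assoc, hl, ← RingHom.comp_assoc, ← IsScalarTower.algebraMap_eq]
  have hle : I.map (algebraMap A (Localization.Away f)) ≤ (J.map (algebraMap B (K J g))).comap g₀ := by
    rw [Ideal.map_le_iff_le_comap, Ideal.comap_comap, h₀, ← Ideal.map_le_iff_le_comap, ← Ideal.map_map]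
    exact Ideal.map_mono hIJ
  refine ⟨Base.CompletionMap.extend (J := I.map (algebraMap A (Localization.Away f))) _ g₀ hle, RingHom.ext fun a => ?_⟩
  rw [RingHom.comp_apply, IsScalarTower.algebraMap_apply A (Localization.Away f) (K I f)]
  exact (Base.CompletionMap.extend_of (J := I.map (algebraMap A (Localization.Away f))) _ g₀ hle _).trans
    (RingHom.congr_fun h₀ a)

theorem exists_extend {C D : Type u} [CommRing C] [CommRing D] {J : Ideal C} (g : C) (π : C →+* D)
    (hu : IsUnit (π g)) (hD : IsAdicComplete (J.map π) D) :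
    ∃ Θ : K J g →+* D, Θ.comp (algebraMap C (K J g)) = π := by
  let l : Localization.Away g →+* D := IsLocalization.Away.lift g hu
  have hl : l.comp (algebraMap C (Localization.Away g)) = π := IsLocalization.Away.lift_comp g hu
  have hle : J.map (algebraMap C (Localization.Away g)) ≤ (J.map π).comap l := by
    rw [← Ideal.map_le_iff_le_comap, Ideal.map_map, hl]
  refine ⟨Base.CompletionMap.extend (J := J.map (algebraMap C (Localization.Away g))) (J.map π) l hle,
    RingHom.ext fun c => ?_⟩
  rw [RingHom.comp_apply, IsScalarTower.algebraMap_apply C (Localization.Away g) (K J g)]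
  exact (Base.CompletionMap.extend_of (J := J.map (algebraMap C (Localization.Away g))) (J.map π) l hle _).trans
    (RingHom.congr_fun hl c)

theorem hom_ext [IsNoetherianRing A] {T : Type u} [CommRing T] {f : A} {K' : Ideal T} [IsAdicComplete K' T]
    {θ θ' : K I f →+* T} (hle : I.map (θ.comp (algebraMap A (K I f))) ≤ K')
    (h : θ.comp (algebraMap A (K I f)) = θ'.comp (algebraMap A (K I f))) : θ = θ' := by
  refine Base.CompletionMap.hom_ext K' (Ideal.FG.map (IsNoetherian.noetherian I) _) ?_ ?_
  · rw [Ideal.map_le_iff_le_comap, Ideal.comap_comap, ← Ideal.map_le_iff_le_comap, RingHom.comp_assoc,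
      ← IsScalarTower.algebraMap_eq]
    exact hle
  · refine IsLocalization.ringHom_ext (Submonoid.powers f) ?_
    rw [RingHom.comp_assoc, RingHom.comp_assoc, ← IsScalarTower.algebraMap_eq]
    exact h

theorem comp_algebraMap {f : A} {ψ : K I f →+* K J (φ f)}
    (hψ : ψ.comp (algebraMap (Localization.Away f) (K I f)) =
      (algebraMap (Localization.Away (φ f)) (K J (φ f))).comp (Localization.awayMap φ f)) :
    ψ.comp (algebraMap A (K I f)) = (algebraMap B (K J (φ f))).comp φ := by
  have h1 : (Localization.awayMap φ f).comp (algebraMap A (Localization.Away f)) =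
      (algebraMap B (Localization.Away (φ f))).comp φ := IsLocalization.map_comp _
  rw [IsScalarTower.algebraMap_eq A (Localization.Away f) (K I f), ← RingHom.comp_assoc, hψ, RingHom.comp_assoc, h1,
    ← RingHom.comp_assoc, ← IsScalarTower.algebraMap_eq]

theorem comp_loc {f : A} {ψ : K I f →+* K J (φ f)}
    (hψ : ψ.comp (algebraMap A (K I f)) = (algebraMap B (K J (φ f))).comp φ) :
    ψ.comp (algebraMap (Localization.Away f) (K I f)) =
      (algebraMap (Localization.Away (φ f)) (K J (φ f))).comp (Localization.awayMap φ f) := by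
  refine IsLocalization.ringHom_ext (Submonoid.powers f) ?_
  have h1 : (Localization.awayMap φ f).comp (algebraMap A (Localization.Away f)) =
      (algebraMap B (Localization.Away (φ f))).comp φ := IsLocalization.map_comp _
  rw [RingHom.comp_assoc, RingHom.comp_assoc, h1, ← IsScalarTower.algebraMap_eq, ← RingHom.comp_assoc,
    ← IsScalarTower.algebraMap_eq, hψ]

end Maps

section Flatness

/-- If `pR` is the ideal and `N` is flat over `A`, then `pR ⊗ N → N` is injective. -/
theorem rTensor_injective {A R N : Type u} [CommRing A] [CommRing R] [AddCommGroup N] [Algebra A R] [Module R N]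
    [Module A N] [IsScalarTower A R N] [Module.Flat A N] (p : Ideal A) :
    Function.Injective ((p.map (algebraMap A R)).subtype.rTensor N) := by
  set P := p.map (algebraMap A R) with hP
  have hmem : ∀ x : p, algebraMap A R x.1 ∈ P := fun x => Ideal.mem_map_of_mem _ x.2
  let Φ : p ⊗[A] N →+ P ⊗[R] N := TensorProduct.liftAddHom
    (AddMonoidHom.mk' (fun x : p => ((TensorProduct.mk R P N) ⟨_, hmem x⟩).toAddMonoidHom)
      fun x y => by
        ext n
        simp only [LinearMap.toAddMonoidHom_coe, AddMonoidHom.add_apply, TensorProduct.mk_apply, ← TensorProduct.add_tmul]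
        exact congrArg (· ⊗ₜ[R] n) (Subtype.ext (map_add (algebraMap A R) x.1 y.1)))
    fun a x n => by
      change (⟨algebraMap A R (a • x : p).1, hmem _⟩ : P) ⊗ₜ[R] n = ⟨_, hmem x⟩ ⊗ₜ[R] (a • n)
      rw [← algebraMap_smul R a n, ← TensorProduct.smul_tmul]
      exact congrArg (· ⊗ₜ[R] n) (Subtype.ext (by simp [Algebra.smul_def]))
  have hΦ : ∀ (x : p) (n : N), Φ (x ⊗ₜ n) = (⟨_, hmem x⟩ : P) ⊗ₜ[R] n := fun x n => rfl
  have hsurj : Function.Surjective Φ := by
    intro z
    induction z using TensorProduct.induction_on with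
    | zero => exact ⟨0, map_zero _⟩
    | add a b ha hb =>
      obtain ⟨⟨a, rfl⟩, b, rfl⟩ := ha, hb
      exact ⟨a + b, map_add _ _ _⟩
    | tmul m n =>
      obtain ⟨m, hm⟩ := m
      have hm' : m ∈ Ideal.span (algebraMap A R '' p) := (hP.le hm : m ∈ p.map (algebraMap A R))
      suffices ∀ n : N, ∃ (h : m ∈ P) (z : p ⊗[A] N), Φ z = (⟨m, h⟩ : P) ⊗ₜ[R] n by
        obtain ⟨_, z, hz⟩ := this n
        exact ⟨z, hz⟩
      clear hm
      induction hm' using Submodule.span_induction with
      | mem y hy =>
        obtain ⟨x, hx, rfl⟩ := hy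
        exact fun n => ⟨hmem ⟨x, hx⟩, ⟨x, hx⟩ ⊗ₜ n, hΦ _ n⟩
      | zero => exact fun n => ⟨zero_mem _, 0, by rw [map_zero]; exact (TensorProduct.zero_tmul _ n).symm⟩
      | add y z _ _ hy hz =>
        intro n
        obtain ⟨h1, a, ha⟩ := hy n
        obtain ⟨h2, b, hb⟩ := hz n
        exact ⟨add_mem h1 h2, a + b, by rw [map_add, ha, hb, ← TensorProduct.add_tmul]; rfl⟩
      | smul r y _ hy =>
        intro n
        obtain ⟨h1, a, ha⟩ := hy (r • n)
        exact ⟨Ideal.mul_mem_left _ r h1, a, by rw [ha, ← TensorProduct.smul_tmul]; rfl⟩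
  rw [injective_iff_map_eq_zero]
  intro z hz
  obtain ⟨w, rfl⟩ := hsurj z
  have hinj : Function.Injective (p.subtype.rTensor N) :=
    Module.Flat.rTensor_preserves_injective_linearMap _ Subtype.val_injective
  have hkey : ∀ w, TensorProduct.lid R N (P.subtype.rTensor N (Φ w)) =
      TensorProduct.lid A N (p.subtype.rTensor N w) := fun w => by
    induction w using TensorProduct.induction_on with
    | zero => simp
    | add a b ha hb => simp only [map_add, ha, hb]
    | tmul x n => simp [hΦ]
  have : w = 0 := by
    apply hinj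
    apply (TensorProduct.lid A N).injective
    rw [← hkey, hz, map_zero, map_zero, map_zero]
  rw [this, map_zero]

/-- Flatness over `S` from flatness over `L`, for a noetherian completion `S` of `L`. -/
theorem flat_of_base {L S M : Type u} [CommRing L] [CommRing S] [CommRing M] [Algebra L S] [Algebra S M]
    [Algebra L M] [IsScalarTower L S M] [IsNoetherianRing S] [IsNoetherianRing M] [Module.Flat L M] (J : Ideal L)
    (hsurj : ∀ s : S, ∃ l, s - algebraMap L S l ∈ J.map (algebraMap L S))
    (hjac : (J.map (algebraMap L S)).map (algebraMap S M) ≤ Ideal.jacobson ⊥) : Module.Flat S M := by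
  set P := J.map (algebraMap L S)
  refine Flat.Criteria.local_criterion (S := M) P hjac (rTensor_injective J) ?_
  have hs : ∀ (s : S) (m : M), ∀ x : S ⧸ P, x ⊗ₜ[L] (s • m) = (s • x) ⊗ₜ[L] m := by
    intro s m x
    obtain ⟨l, hl⟩ := hsurj s
    have hzero : ∀ p ∈ P, ∀ (x : S ⧸ P) (m : M), x ⊗ₜ[L] (p • m) = 0 := by
      intro p hp
      have hp' : p ∈ Ideal.span (algebraMap L S '' J) := hp
      clear hp
      induction hp' using Submodule.span_induction with
      | mem y hy =>
        obtain ⟨j, hj, rfl⟩ := hy
        intro x m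
        rw [algebraMap_smul, ← TensorProduct.smul_tmul]
        obtain ⟨x, rfl⟩ := Ideal.Quotient.mk_surjective x
        rw [show j • (Ideal.Quotient.mk P x) = 0 from ?_, TensorProduct.zero_tmul]
        rw [← algebraMap_smul S j, Algebra.smul_def, Ideal.Quotient.algebraMap_eq, ← map_mul, Ideal.Quotient.eq_zero_iff_mem]
        exact P.mul_mem_right _ (Ideal.mem_map_of_mem _ hj)
      | zero => intro x m; rw [zero_smul, TensorProduct.tmul_zero]
      | add a b _ _ ha hb => intro x m; rw [add_smul, TensorProduct.tmul_add, ha, hb, add_zero]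
      | smul r a _ ha =>
        intro x m
        rw [smul_eq_mul, mul_comm, mul_smul]
        exact ha x _
    have h1 : (s - algebraMap L S l) • x = 0 := by
      obtain ⟨x, rfl⟩ := Ideal.Quotient.mk_surjective x
      rw [Algebra.smul_def, Ideal.Quotient.algebraMap_eq, ← map_mul, Ideal.Quotient.eq_zero_iff_mem]
      exact P.mul_mem_right _ hl
    have h2 := hzero _ hl x m
    rw [sub_smul, TensorProduct.tmul_sub, sub_eq_zero, algebraMap_smul] at h2
    rw [sub_smul, sub_eq_zero, algebraMap_smul] at h1
    rw [h2, h1, TensorProduct.smul_tmul]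
  let v : (S ⧸ P) ⊗[S] M →+ (S ⧸ P) ⊗[L] M := TensorProduct.liftAddHom
    (AddMonoidHom.mk' (fun x => ((TensorProduct.mk L (S ⧸ P) M) x).toAddMonoidHom) fun x y => by
      ext m; simp [TensorProduct.add_tmul])
    fun s x m => (hs s m x).symm
  let u : (S ⧸ P) ⊗[L] M →ₗ[S ⧸ P] (S ⧸ P) ⊗[S] M :=
    TensorProduct.AlgebraTensorModule.lift
      { toFun := fun x => ((TensorProduct.mk S (S ⧸ P) M) x).restrictScalars L
        map_add' := fun x y => by ext m; simp [TensorProduct.add_tmul]
        map_smul' := fun c x => by ext m; simp [TensorProduct.smul_tmul'] }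
  have huv : ∀ z, u (v z) = z := fun z => by
    induction z using TensorProduct.induction_on with
    | zero => rw [map_zero, map_zero]
    | add a b ha hb => rw [map_add, map_add, ha, hb]
    | tmul x m => rfl
  have hvu : ∀ z, v (u z) = z := fun z => by
    induction z using TensorProduct.induction_on with
    | zero => rw [map_zero, map_zero]
    | add a b ha hb => rw [map_add, map_add, ha, hb]
    | tmul x m => rfl
  exact Module.Flat.of_linearEquiv
    (LinearEquiv.ofBijective u ⟨Function.LeftInverse.injective hvu, Function.RightInverse.surjective huv⟩).symm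

variable {A B : Type u} [CommRing A] [CommRing B] [IsNoetherianRing A] [IsNoetherianRing B]
  {φ : A →+* B} {I : Ideal A} {J : Ideal B}

/-- Completed localizations of flat maps are flat. -/
theorem flat_map (hφ : φ.Flat) (hIJ : I.map φ ≤ J) {f : A} {g : B} (θ : K I f →+* K J g)
    (hθ : θ.comp (algebraMap A (K I f)) = (algebraMap B (K J g)).comp φ) : θ.Flat := by
  have hS := CompletedLoc.isNoetherianRing I f
  have hM := CompletedLoc.isNoetherianRing J g
  have hMc := CompletedLoc.isAdicComplete J g
  let _ : Algebra (K I f) (K J g) := θ.toAlgebra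
  let _ : Algebra (Localization.Away f) (K J g) := (θ.comp (algebraMap (Localization.Away f) (K I f))).toAlgebra
  have : IsScalarTower (Localization.Away f) (K I f) (K J g) := IsScalarTower.of_algebraMap_eq' rfl
  let _ : Algebra A (K J g) := ((algebraMap B (K J g)).comp φ).toAlgebra
  have : IsScalarTower A (Localization.Away f) (K J g) := IsScalarTower.of_algebraMap_eq' (by
    show (algebraMap B (K J g)).comp φ = (θ.comp (algebraMap (Localization.Away f) (K I f))).comp _
    rw [RingHom.comp_assoc, ← IsScalarTower.algebraMap_eq, hθ])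
  have : Module.Flat A (K J g) := hφ.comp (RingHom.flat_algebraMap_iff.mpr (CompletedLoc.flat J g))
  have : Module.Flat (Localization.Away f) (K J g) :=
    (Module.flat_iff_of_isLocalization (Localization.Away f) (Submonoid.powers f) (K J g)).mpr this
  refine flat_of_base (I.map (algebraMap A (Localization.Away f))) (fun s => ?_) ?_
  · obtain ⟨c, hc⟩ := Base.Trunc.exists_sub_mem (Ideal.FG.map (IsNoetherian.noetherian I) _) 1 s
    exact ⟨c, by rwa [pow_one] at hc⟩
  · refine le_trans ?_ (IsAdicComplete.le_jacobson_bot (J.map (algebraMap B (K J g))))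
    rw [Ideal.map_map, Ideal.map_map, RingHom.comp_assoc, ← IsScalarTower.algebraMap_eq]
    show I.map (θ.comp _) ≤ _
    rw [hθ, ← Ideal.map_map]
    exact Ideal.map_mono hIJ

omit [IsNoetherianRing A] [IsNoetherianRing B] in
theorem flat_of_comp {R S T : Type u} [CommRing R] [CommRing S] [CommRing T] (α : R →+* S) (β : S →+* T)
    [IsLocalRing S] [IsLocalRing T] [IsLocalHom β] (hβ : β.Flat) (h : (β.comp α).Flat) : α.Flat := by
  algebraize [α, β, β.comp α]
  have : IsLocalHom (algebraMap S T) := ‹IsLocalHom β›
  have := Module.FaithfullyFlat.of_flat_of_isLocalHom (A := S) (B := T)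
  show Module.Flat R S
  rw [Module.Flat.iff_lTensor_preserves_injective_linearMap]
  intro N P _ _ _ _ f hf
  have hT := Module.Flat.lTensor_preserves_injective_linearMap (M := T) f hf
  suffices Function.Injective (f.baseChange S) from this
  rw [← Module.FaithfullyFlat.lTensor_injective_iff_injective S T]
  have key : ∀ z, TensorProduct.AlgebraTensorModule.cancelBaseChange R S T T P
      (LinearMap.lTensor T (f.baseChange S) z) =
      LinearMap.lTensor T f (TensorProduct.AlgebraTensorModule.cancelBaseChange R S T T N z) := by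
    intro z
    induction z with
    | zero => simp
    | add a b ha hb => simp [ha, hb]
    | tmul t w =>
      induction w with
      | zero => simp
      | add a b ha hb => rw [TensorProduct.tmul_add]; simp only [map_add, ha, hb]
      | tmul s n => simp
  intro a b hab
  refine (TensorProduct.AlgebraTensorModule.cancelBaseChange R S T T N).injective (hT ?_)
  rw [← key, ← key, hab]

omit [IsNoetherianRing A] [IsNoetherianRing B] in
/-- Flatness at `q` from flatness at a prime above it along a flat map. -/
theorem flat_descent {R T T' : Type u} [CommRing R] [CommRing T] [CommRing T'] (θ : T →+* T') (hθ : θ.Flat)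
    (ψ : R →+* T) (q : Ideal T) [q.IsPrime] (q' : Ideal T') [q'.IsPrime] (hq : q'.comap θ = q)
    (h : ((algebraMap T' (Localization.AtPrime q')).comp (θ.comp ψ)).Flat) :
    ((algebraMap T (Localization.AtPrime q)).comp ψ).Flat := by
  refine flat_of_comp _ (Localization.localRingHom q q' θ hq.symm) (hθ.localRingHom q' q hq.symm) ?_
  refine (show _ = (Localization.localRingHom q q' θ hq.symm).comp ((algebraMap T (Localization.AtPrime q)).comp ψ)
    from RingHom.ext fun x => ?_) ▸ h
  exact (Localization.localRingHom_to_map q q' θ hq.symm (ψ x)).symm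

end Flatness

section Shrink

variable {A C : Type u} [CommRing A] [CommRing C] [Algebra A C] [IsNoetherianRing A] [IsNoetherianRing C]
  {I : Ideal A} {J : Ideal C}

/-- Shrinking around a rig-closed point so that it becomes finite over the base. -/
theorem exists_shrink (hJ : J = I.map (algebraMap A C)) (hft : Algebra.FiniteType A (C ⧸ J)) (g : C)
    (q : PrimeSpectrum (K J g)) (hq : Closed.IsRigClosed (J.map (algebraMap C (K J g))) q) :
    ∃ (h : A) (θ : K J g →+* K J (g * algebraMap A C h)) (q' : PrimeSpectrum (K J (g * algebraMap A C h))),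
      θ.comp (algebraMap C (K J g)) = (algebraMap C (K J (g * algebraMap A C h))).comp (RingHom.id C) ∧
      q'.asIdeal.comap θ = q.asIdeal ∧
      Closed.IsRigClosed (J.map (algebraMap C (K J (g * algebraMap A C h)))) q' ∧
      ∀ (f : A), IsUnit (algebraMap C (Localization.Away (g * algebraMap A C h)) (algebraMap A C f)) → h ∣ f →
      ∀ ω : K I f →+* K J (g * algebraMap A C h),
        ω.comp (algebraMap A (K I f)) = (algebraMap C (K J (g * algebraMap A C h))).comp (algebraMap A C) →
        ((Ideal.Quotient.mk q'.asIdeal).comp ω).Finite := by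
  have hJdef := hJ
  have hTn := CompletedLoc.isNoetherianRing J g
  have hTc := CompletedLoc.isAdicComplete J g
  have hTJ : J.map (algebraMap C (K J g)) = I.map (algebraMap A (K J g)) :=
    (congrArg (Ideal.map (algebraMap C (K J g))) hJ).trans
      ((Ideal.map_map _ _).trans (congrArg (fun e => Ideal.map e I) (IsScalarTower.algebraMap_eq A C (K J g)).symm))
  obtain ⟨m, hm, hqm⟩ := Ideal.exists_le_maximal q.asIdeal q.isPrime.ne_top
  have hJm : J.map (algebraMap C (K J g)) ≤ m := fun x hx =>
    Ideal.mem_sInf.mp (IsAdicComplete.le_jacobson_bot _ hx) ⟨bot_le, hm⟩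
  let _ := Ideal.Quotient.field m
  have := Closed.finiteType_quotient (CompletedLoc.finiteType J g hJ hft) (m := m) (hTJ ▸ hJm)
  obtain ⟨h, hhK, hfin⟩ := Shrink.exists_finite_away (A := A) (K := K J g ⧸ m)
  obtain ⟨-, hspec, -⟩ := Closed.spec hq
  set g' := g * algebraMap A C h with hg'
  have hh : IsUnit (Ideal.Quotient.mk q.asIdeal (algebraMap A (K J g) h)) := by
    by_contra hnu
    obtain ⟨M, hM, hhM⟩ := exists_max_ideal_of_mem_nonunits hnu
    have h1 : (m.map (Ideal.Quotient.mk q.asIdeal)).IsMaximal :=
      (Ideal.map_eq_top_or_isMaximal_of_surjective _ Ideal.Quotient.mk_surjective hm).resolve_left fun htop => by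
        have := congrArg (Ideal.comap (Ideal.Quotient.mk q.asIdeal)) htop
        rw [Ideal.comap_map_mk hqm, Ideal.comap_top] at this
        exact hm.ne_top this
    rw [hspec M hM, ← hspec _ h1] at hhM
    have hhm : algebraMap A (K J g) h ∈ m := by
      have : algebraMap A (K J g) h ∈ (m.map (Ideal.Quotient.mk q.asIdeal)).comap (Ideal.Quotient.mk q.asIdeal) := hhM
      rwa [Ideal.comap_map_mk hqm] at this
    exact hhK.ne_zero (Ideal.Quotient.eq_zero_iff_mem.mpr hhm)
  let π := (Ideal.Quotient.mk q.asIdeal).comp (algebraMap C (K J g))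
  have hπg : IsUnit (π g') := by
    rw [hg', map_mul]
    refine IsUnit.mul ?_ ?_
    · show IsUnit (Ideal.Quotient.mk q.asIdeal (algebraMap C (K J g) g))
      refine IsUnit.map _ ?_
      rw [IsScalarTower.algebraMap_apply C (Localization.Away g) (K J g)]
      exact (IsLocalization.Away.algebraMap_isUnit (S := Localization.Away g) g).map _
    · show IsUnit (Ideal.Quotient.mk q.asIdeal (algebraMap C (K J g) (algebraMap A C h)))
      rwa [← IsScalarTower.algebraMap_apply]
  have hD := Closed.isAdicComplete_quotient (J := J.map (algebraMap C (K J g))) q.asIdeal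
  have hD' : IsAdicComplete (J.map π) (K J g ⧸ q.asIdeal) :=
    (Ideal.map_map (algebraMap C (K J g)) (Ideal.Quotient.mk q.asIdeal) (I := J)) ▸ hD
  obtain ⟨Θ, hΘ⟩ := exists_extend (J := J) g' π hπg hD'
  obtain ⟨θ, hθ⟩ := exists_map (I := J) (J := J) (RingHom.id C) (by rw [Ideal.map_id]) g g' (by
    refine isUnit_of_dvd_unit ?_ (IsLocalization.Away.algebraMap_isUnit (S := Localization.Away g') g')
    exact map_dvd _ ⟨algebraMap A C h, rfl⟩)
  have hΘθ : Θ.comp θ = Ideal.Quotient.mk q.asIdeal := by
    refine hom_ext (K' := J.map π) (le_of_eq ?_) ?_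
    · rw [RingHom.comp_assoc, hθ, RingHom.comp_id, hΘ]
    · rw [RingHom.comp_assoc, hθ, RingHom.comp_id, hΘ]
  have hΘsurj : Function.Surjective Θ := fun y => by
    obtain ⟨y, rfl⟩ := Ideal.Quotient.mk_surjective y
    exact ⟨θ y, RingHom.congr_fun hΘθ y⟩
  let q' : PrimeSpectrum (K J g') := ⟨RingHom.ker Θ, RingHom.ker_isPrime Θ⟩
  have hcomap : q'.asIdeal.comap θ = q.asIdeal := by
    show (RingHom.ker Θ).comap θ = _
    rw [RingHom.comap_ker, hΘθ, Ideal.mk_ker]
  have hmapΘ : (J.map (algebraMap C (K J g'))).map Θ = (J.map (algebraMap C (K J g))).map (Ideal.Quotient.mk q.asIdeal) := by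
    rw [Ideal.map_map, hΘ, Ideal.map_map]
  have hq' : Closed.IsRigClosed (J.map (algebraMap C (K J g'))) q' := by
    refine ⟨fun hle => Closed.map_ne_bot hq ?_, fun y hy hJy => ?_⟩
    · rw [← hmapΘ]
      exact (Ideal.map_eq_bot_iff_le_ker _).mpr hle
    · have := y.isPrime
      have hP : (y.asIdeal.map Θ).IsPrime := Ideal.map_isPrime_of_surjective hΘsurj hy
      by_contra hne
      have h0 : y.asIdeal.map Θ ≠ ⊥ := fun h0 => hne (PrimeSpectrum.ext (le_antisymm
        ((Ideal.map_eq_bot_iff_le_ker _).mp h0) hy))
      refine hJy fun x hx => ?_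
      have := Closed.le_of_prime_quotient hq _ hP h0 (hmapΘ ▸ Ideal.mem_map_of_mem Θ hx)
      have h2 : x ∈ (y.asIdeal.map Θ).comap Θ := this
      rwa [Ideal.comap_map_of_surjective _ hΘsurj, ← RingHom.ker_eq_comap_bot, sup_eq_left.mpr hy] at h2
  refine ⟨h, θ, q', hθ, hcomap, hq', fun f hfu hhf ω hω => ?_⟩
  have hSn := CompletedLoc.isNoetherianRing I f
  have hSc := CompletedLoc.isAdicComplete I f
  have hT'n := CompletedLoc.isNoetherianRing J g'
  let _ : Algebra (K I f) (K J g') := ω.toAlgebra
  have : IsScalarTower A (K I f) (K J g') := IsScalarTower.of_algebraMap_eq' (by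
    rw [IsScalarTower.algebraMap_eq A C (K J g')]; exact hω.symm)
  have hmapI : (I.map (algebraMap A (K I f))).map (algebraMap (K I f) (K J g')) = J.map (algebraMap C (K J g')) :=
    ((Ideal.map_map _ _).trans (congrArg (fun e => Ideal.map e I)
      ((IsScalarTower.algebraMap_eq A (K I f) (K J g')).symm.trans (IsScalarTower.algebraMap_eq A C (K J g'))))).trans
      ((Ideal.map_map _ _).symm.trans (congrArg (Ideal.map (algebraMap C (K J g'))) hJdef.symm))
  have : IsAdicComplete ((I.map (algebraMap A (K I f))).map (algebraMap (K I f) (K J g'))) (K J g') := by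
    rw [hmapI]; exact CompletedLoc.isAdicComplete J g'
  have hftS : Algebra.FiniteType (K I f) (K J g' ⧸ (I.map (algebraMap A (K I f))).map (algebraMap (K I f) (K J g'))) := by
    rw [Ideal.map_map, ← IsScalarTower.algebraMap_eq A (K I f) (K J g')]
    have := CompletedLoc.finiteType J g' hJdef hft
    exact Algebra.FiniteType.of_restrictScalars_finiteType A _ _
  let ν : K J g ⧸ q.asIdeal →+* K J g ⧸ m := Ideal.Quotient.factor hqm
  have hν : Function.Surjective ν := Ideal.Quotient.factor_surjective hqm
  let m' : Ideal (K J g') := RingHom.ker (ν.comp Θ)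
  have hm' : m'.IsMaximal := RingHom.ker_isMaximal_of_surjective _ (hν.comp hΘsurj)
  have hqm' : q'.asIdeal ≤ m' := fun x hx => by
    show ν (Θ x) = 0
    rw [RingHom.mem_ker.mp hx, map_zero]
  have hres : Module.Finite (K I f) (K J g' ⧸ m') := by
    let e := RingHom.quotientKerEquivOfSurjective (f := ν.comp Θ) (hν.comp hΘsurj)
    have hfu' : IsUnit (algebraMap A (Localization.Away f) h) :=
      isUnit_of_dvd_unit (map_dvd _ hhf) (IsLocalization.Away.algebraMap_isUnit (S := Localization.Away f) f)
    let ι : Localization.Away h →+* Localization.Away f := IsLocalization.Away.lift h hfu'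
    have h2 : ((e.toRingHom).comp ((algebraMap (K I f) (K J g' ⧸ m')).comp (algebraMap (Localization.Away f) (K I f)))).comp ι =
        IsLocalization.Away.lift (S := Localization.Away h) h hhK := by
      refine IsLocalization.ringHom_ext (Submonoid.powers h) (RingHom.ext fun a => ?_)
      simp only [RingHom.comp_apply, ι, IsLocalization.Away.lift_eq]
      rw [← IsScalarTower.algebraMap_apply A (Localization.Away f) (K I f)]
      show ν (Θ (ω (algebraMap A (K I f) a))) = _
      rw [show ω (algebraMap A (K I f) a) = algebraMap C (K J g') (algebraMap A C a) from RingHom.congr_fun hω a,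
        show Θ (algebraMap C (K J g') (algebraMap A C a)) = π (algebraMap A C a) from RingHom.congr_fun hΘ _]
      show Ideal.Quotient.factor hqm (Ideal.Quotient.mk _ _) = _
      rw [Ideal.Quotient.factor_mk, ← IsScalarTower.algebraMap_apply A C (K J g)]
      rfl
    rw [← h2] at hfin
    have h3 := RingHom.Finite.of_comp_finite hfin
    have h4 := (RingHom.Finite.of_surjective e.symm.toRingHom e.symm.surjective).comp h3
    have h5 : e.symm.toRingHom.comp (e.toRingHom.comp ((algebraMap (K I f) (K J g' ⧸ m')).comp (algebraMap (Localization.Away f) (K I f)))) =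
        (algebraMap (K I f) (K J g' ⧸ m')).comp (algebraMap (Localization.Away f) (K I f)) :=
      RingHom.ext fun x => e.symm_apply_apply _
    rw [h5] at h4
    exact RingHom.finite_algebraMap.mp (RingHom.Finite.of_comp_finite h4)
  have hq'' : Closed.IsRigClosed ((I.map (algebraMap A (K I f))).map (algebraMap (K I f) (K J g'))) q' := by
    rw [hmapI]; exact hq'
  have := Closed.finite_of_residue hftS hq'' m' hqm' hres
  exact RingHom.finite_algebraMap.mpr this

end Shrink

end Groth.Agent.Adic.Rig.Permanence
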