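import Groth.Agent.Adic.Rig.Closed
import Mathlib.RingTheory.Unramified.LocalRing
import Mathlib.RingTheory.Unramified.LocalStructure
import Mathlib.RingTheory.Localization.Ideal

/-! Unramified reduction at rig-closed points. -/

namespace Groth.Agent.Adic.Rig.Unramified

universe u

theorem map_eq_maximalIdeal {A B : Type u} [CommRing A] [IsNoetherianRing A] (I : Ideal A) [IsAdicComplete I A]
    [CommRing B] [Algebra A B] [IsNoetherianRing B] [IsAdicComplete (I.map (algebraMap A B)) B]
    (hft : Algebra.FiniteType A (B ⧸ (I.map (algebraMap A B))))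
    (hAJ : Algebra.FormallyUnramified A (B ⧸ (I.map (algebraMap A B)))) (q : PrimeSpectrum B)
    (hp : Closed.IsRigClosed I (PrimeSpectrum.comap (algebraMap A B) q)) :
    ((PrimeSpectrum.comap (algebraMap A B) q).asIdeal.map (algebraMap A B)).map
      (algebraMap B (Localization.AtPrime q.asIdeal)) =
        IsLocalRing.maximalIdeal (Localization.AtPrime q.asIdeal) := by
  set p := PrimeSpectrum.comap (algebraMap A B) q with hpdef
  let J := I.map (algebraMap A B)
  let P := p.asIdeal.map (algebraMap A B)
  let C := B ⧸ P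
  let C' := B ⧸ (P ⊔ J)
  let R' := A ⧸ (p.asIdeal ⊔ I)
  -- C' is formally unramified over A
  have hC'A : Algebra.FormallyUnramified A C' :=
    Algebra.FormallyUnramified.of_surjective (Ideal.Quotient.factorₐ A (le_sup_right : J ≤ P ⊔ J))
      (Ideal.Quotient.factor_surjective (le_sup_right : J ≤ P ⊔ J))
  have hft' : Algebra.FiniteType A C' := Groth.Agent.Adic.Rig.Closed.finiteType_quotient hft (le_sup_right : J ≤ P ⊔ J)
  -- finiteness
  have hR' : IsArtinianRing R' := by
    have : Ring.KrullDimLE 0 R' := Ring.KrullDimLE.mk₀ fun Q hQ => by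
      have hle : p.asIdeal ⊔ I ≤ Q.comap (Ideal.Quotient.mk (p.asIdeal ⊔ I)) := fun x hx => by
        rw [Ideal.mem_comap, Ideal.Quotient.eq_zero_iff_mem.mpr hx]; exact Q.zero_mem
      have := Groth.Agent.Adic.Rig.Closed.isMaximal_of_lt hp (le_sup_left.trans hle) (le_sup_right.trans hle)
      rw [← Ideal.map_comap_of_surjective _ Ideal.Quotient.mk_surjective Q]
      exact (Ideal.map_eq_top_or_isMaximal_of_surjective _ Ideal.Quotient.mk_surjective this).resolve_left fun h =>
        hQ.ne_top (by rwa [Ideal.map_comap_of_surjective _ Ideal.Quotient.mk_surjective] at h)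
    exact IsNoetherianRing.isArtinianRing_of_krullDimLE_zero
  let φ : R' →+* C' := Ideal.Quotient.lift _ (algebraMap A C') fun a ha => by
    refine Ideal.Quotient.eq_zero_iff_mem.mpr ?_
    have h := Ideal.mem_map_of_mem (algebraMap A B) ha
    rw [Ideal.map_sup] at h
    exact h
  let _ : Algebra R' C' := φ.toAlgebra
  have : IsScalarTower A R' C' := IsScalarTower.of_algebraMap_eq' rfl
  have : Algebra.FormallyUnramified R' C' := Algebra.FormallyUnramified.of_restrictScalars A R' C'
  have : Algebra.FiniteType R' C' := Algebra.FiniteType.of_restrictScalars_finiteType A _ _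
  have : Module.Finite R' C' := Module.Finite.of_quasiFinite
  have hfinC' : Module.Finite A C' := Module.Finite.trans R' C'
  have hC : IsAdicComplete (J.map (Ideal.Quotient.mk P)) C := Groth.Agent.Adic.Rig.Closed.isAdicComplete_quotient P
  have hmapC : J.map (Ideal.Quotient.mk P) = I.map (algebraMap A C) := Ideal.map_map _ _
  rw [hmapC] at hC
  have : IsHausdorff I C := IsHausdorff.map_algebraMap_iff.mp hC.toIsHausdorff
  have hfinC : Module.Finite A C := by
    refine Groth.Agent.Adic.Rig.Closed.finite_of_finite_quotient (I := I) ?_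
    let π : C →ₗ[A] C ⧸ (I • ⊤ : Submodule A C) := Submodule.mkQ _
    have hker : ∀ b ∈ P ⊔ J, π (Ideal.Quotient.mk P b) = 0 := by
      intro b hb
      obtain ⟨a, ha, c, hc, rfl⟩ := Submodule.mem_sup.mp hb
      rw [Submodule.mkQ_apply, Submodule.Quotient.mk_eq_zero, Ideal.smul_top_eq_map, Submodule.restrictScalars_mem,
        ← hmapC, map_add, Ideal.Quotient.eq_zero_iff_mem.mpr ha, zero_add]
      exact Ideal.mem_map_of_mem _ hc
    let L : C' →ₗ[A] C ⧸ (I • ⊤ : Submodule A C) :=
      (Submodule.liftQ ((P ⊔ J).restrictScalars A) (π.comp (Ideal.Quotient.mkₐ A P).toLinearMap) fun b hb => hker b hb).comp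
        (Submodule.Quotient.restrictScalarsEquiv A (P ⊔ J)).symm.toLinearMap
    refine Module.Finite.of_surjective L fun z => ?_
    obtain ⟨z, rfl⟩ := Submodule.Quotient.mk_surjective _ z
    obtain ⟨z, rfl⟩ := Ideal.Quotient.mk_surjective z
    exact ⟨Ideal.Quotient.mk _ z, rfl⟩
  -- C is formally unramified over A
  have hCunr : Algebra.FormallyUnramified A C := by
    rw [Algebra.formallyUnramified_iff]
    have : Module.Finite C (Ω[C⁄A]) := inferInstance
    let JC : Ideal C := I.map (algebraMap A C)
    suffices h : (⊤ : Submodule C (Ω[C⁄A])) ≤ JC • ⊤ by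
      have h0 := Submodule.eq_bot_of_le_smul_of_le_jacobson_bot JC ⊤ Module.Finite.fg_top h
        (IsAdicComplete.le_jacobson_bot JC)
      exact ⟨fun x y => by
        have hx : x ∈ (⊥ : Submodule C (Ω[C⁄A])) := h0 ▸ trivial
        have hy : y ∈ (⊥ : Submodule C (Ω[C⁄A])) := h0 ▸ trivial
        rw [(Submodule.mem_bot C).mp hx, (Submodule.mem_bot C).mp hy]⟩
    rw [← KaehlerDifferential.span_range_derivation, Submodule.span_le]
    rintro _ ⟨c, rfl⟩
    let M := Ω[C⁄A] ⧸ (JC • ⊤ : Submodule C (Ω[C⁄A]))
    let δ : Derivation A C M := (Submodule.mkQ (JC • ⊤ : Submodule C (Ω[C⁄A]))).compDer (KaehlerDifferential.D A C)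
    suffices δ c = 0 by
      rw [SetLike.mem_coe, KaehlerDifferential.span_range_derivation]
      exact (Submodule.Quotient.mk_eq_zero _).mp this
    let C'' := C ⧸ JC
    have hC'' : Algebra.FormallyUnramified A C'' := by
      let e : C' →ₐ[A] C'' := Ideal.Quotient.liftₐ (P ⊔ J)
        ((Ideal.Quotient.mkₐ A JC).comp (Ideal.Quotient.mkₐ A P)) fun y hy => by
          obtain ⟨a, ha, b, hb, rfl⟩ := Submodule.mem_sup.mp hy
          show Ideal.Quotient.mk JC (Ideal.Quotient.mk P (a + b)) = 0
          rw [Ideal.Quotient.eq_zero_iff_mem, map_add, Ideal.Quotient.eq_zero_iff_mem.mpr ha, zero_add]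
          show _ ∈ I.map (algebraMap A C)
          rw [← hmapC]; exact Ideal.mem_map_of_mem _ hb
      exact Algebra.FormallyUnramified.of_surjective e fun z => by
        obtain ⟨z, rfl⟩ := Ideal.Quotient.mk_surjective z
        obtain ⟨z, rfl⟩ := Ideal.Quotient.mk_surjective z
        exact ⟨Ideal.Quotient.mk _ z, rfl⟩
    let π : C →+* C'' := Ideal.Quotient.mk JC
    have hπ : Function.Surjective π := Ideal.Quotient.mk_surjective
    have hkill : ∀ z ∈ JC, ∀ m : M, z • m = 0 := fun z hz m => by
      obtain ⟨m, rfl⟩ := Submodule.Quotient.mk_surjective _ m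
      rw [← Submodule.Quotient.mk_smul, Submodule.Quotient.mk_eq_zero]
      exact Submodule.smul_mem_smul hz trivial
    have hspan : ∀ z ∈ Ideal.span (algebraMap A C '' I), δ z = 0 := by
      intro z hz
      induction hz using Submodule.span_induction with
      | mem z hz => obtain ⟨a, -, rfl⟩ := hz; exact δ.map_algebraMap a
      | zero => exact map_zero δ
      | add y z _ _ hy hz => rw [map_add, hy, hz, add_zero]
      | smul r z hz h1 => rw [smul_eq_mul, Derivation.leibniz, h1, smul_zero, zero_add, hkill z hz]
    choose σ hσ using Ideal.Quotient.mk_surjective (I := JC)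
    have hwd : ∀ x, δ (σ (π x)) = δ x := fun x => by
      have := hspan (σ (π x) - x) (Ideal.Quotient.eq.mp (hσ _))
      rwa [map_sub, sub_eq_zero] at this
    have hsm : ∀ (r : C) (m : M), π r • m = r • m := fun r m => by
      obtain ⟨m, rfl⟩ := Submodule.Quotient.mk_surjective _ m; rfl
    let d : Derivation A C'' M :=
      { toFun := fun y => δ (σ y)
        map_add' := fun y z => by
          rw [← map_add, show y + z = π (σ y + σ z) by rw [map_add]; exact (congrArg₂ (· + ·) (hσ y) (hσ z)).symm, hwd]
        map_smul' := fun a y => by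
          rw [RingHom.id_apply, ← Derivation.map_smul, show a • y = π (a • σ y) from (congrArg (a • ·) (hσ y)).symm.trans (map_smul (Ideal.Quotient.mkₐ A JC) a (σ y)).symm, hwd]
        map_one_eq_zero' := by
          show δ (σ 1) = 0
          rw [show (1 : C'') = π 1 from (map_one π).symm, hwd, Derivation.map_one_eq_zero]
        leibniz' := fun y z => by
          show δ (σ (y * z)) = y • δ (σ z) + z • δ (σ y)
          rw [show y * z = π (σ y * σ z) by rw [map_mul]; exact (congrArg₂ (· * ·) (hσ y) (hσ z)).symm, hwd, Derivation.leibniz, ← hsm, ← hsm]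
          exact congrArg₂ (fun u v => u • δ (σ z) + v • δ (σ y)) (hσ y) (hσ z) }
    have hd : d = 0 := by
      have : Subsingleton Ω[C''⁄A] := hC''.subsingleton_kaehlerDifferential
      refine Derivation.ext fun y => ?_
      rw [← Derivation.liftKaehlerDifferential_comp_D d y, Subsingleton.elim (KaehlerDifferential.D A C'' y) 0, map_zero]
      rfl
    rw [← hwd c]
    exact Derivation.congr_fun hd (π c)
  -- localization at q
  let L := Localization.AtPrime q.asIdeal
  let S := L ⧸ P.map (algebraMap B L)
  have hPq : P ≤ q.asIdeal := Ideal.map_le_iff_le_comap.mpr le_rfl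
  have hPL : P.map (algebraMap B L) ≤ IsLocalRing.maximalIdeal L :=
    (Ideal.map_mono hPq).trans_eq Localization.AtPrime.map_eq_maximalIdeal
  refine le_antisymm hPL ?_
  have : IsLocalRing S := by
    have : Nontrivial S := Ideal.Quotient.nontrivial_iff.mpr fun h =>
      (IsLocalRing.maximalIdeal.isMaximal L).ne_top (top_le_iff.mp (h ▸ hPL))
    exact IsLocalRing.of_surjective' (Ideal.Quotient.mk _) Ideal.Quotient.mk_surjective
  have hSloc : IsLocalization (Algebra.algebraMapSubmonoid C q.asIdeal.primeCompl) S := inferInstance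
  let _ : Algebra C S := inferInstance
  have : IsScalarTower A C S := IsScalarTower.of_algebraMap_eq fun a => rfl
  have : Algebra.FormallyUnramified C S :=
    Algebra.FormallyUnramified.of_isLocalization (Algebra.algebraMapSubmonoid C q.asIdeal.primeCompl)
  have : Algebra.FormallyUnramified A S := Algebra.FormallyUnramified.comp A C S
  have : Algebra.EssFiniteType C S :=
    Algebra.EssFiniteType.of_isLocalization S (Algebra.algebraMapSubmonoid C q.asIdeal.primeCompl)
  have : Algebra.EssFiniteType A S := Algebra.EssFiniteType.comp A C S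
  let D := A ⧸ p.asIdeal
  let K := FractionRing D
  let α : D →+* S := Ideal.Quotient.lift _ (algebraMap A S) fun a ha => by
    refine Ideal.Quotient.eq_zero_iff_mem.mpr ?_
    rw [IsScalarTower.algebraMap_apply A B L]
    exact Ideal.mem_map_of_mem _ (Ideal.mem_map_of_mem _ ha)
  let β : K →+* S := IsLocalization.lift (M := nonZeroDivisors D) (g := α) fun d => by
    obtain ⟨a, ha⟩ := Ideal.Quotient.mk_surjective (d : D)
    have hap : a ∉ p.asIdeal := fun h => nonZeroDivisors.coe_ne_zero d (by rw [← ha]; exact Ideal.Quotient.eq_zero_iff_mem.mpr h)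
    rw [← ha]
    show IsUnit (Ideal.Quotient.mk _ (algebraMap A L a))
    rw [IsScalarTower.algebraMap_apply A B L]
    exact (IsLocalization.map_units L (⟨algebraMap A B a, hap⟩ : q.asIdeal.primeCompl)).map _
  let _ : Algebra K S := β.toAlgebra
  have : IsScalarTower A K S := IsScalarTower.of_algebraMap_eq fun a => by
    show algebraMap A S a = β (algebraMap A K a)
    rw [IsScalarTower.algebraMap_apply A D K]
    exact (show β (algebraMap D K (algebraMap A D a)) = α (algebraMap A D a) from IsLocalization.lift_eq _ _).symm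
  have : Algebra.FormallyUnramified K S := Algebra.FormallyUnramified.of_restrictScalars A K S
  have : Algebra.EssFiniteType K S := Algebra.EssFiniteType.of_comp A K S
  have : IsLocalHom (algebraMap K S) := ⟨fun x hx => isUnit_iff_ne_zero.mpr fun h0 => by
    rw [h0, map_zero] at hx
    exact not_isUnit_zero hx⟩
  have hm := Algebra.FormallyUnramified.map_maximalIdeal (R := K) (S := S)
  have hK : IsLocalRing.maximalIdeal K = ⊥ := IsLocalRing.maximalIdeal_eq_bot
  rw [hK, Ideal.map_bot] at hm
  intro x hx
  have : Ideal.Quotient.mk (P.map (algebraMap B L)) x ∈ IsLocalRing.maximalIdeal S := by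
    have : IsLocalHom (Ideal.Quotient.mk (P.map (algebraMap B L))) :=
      IsLocalHom.of_surjective _ Ideal.Quotient.mk_surjective
    exact fun h => hx (IsUnit.of_map _ x h)
  rw [← hm, Ideal.mem_bot] at this
  exact Ideal.Quotient.eq_zero_iff_mem.mp this

end Groth.Agent.Adic.Rig.Unramified
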