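import Groth.Agent.Adic.Rig.Permanence
import Groth.Agent.Adic.Rig.Unramified

/-! Composition, descent and etale base change of rig-flatness. -/

namespace Groth.Agent.Adic.Rig.RigFlat

open CompletedLoc Permanence IsLocalRing

universe u

section Helpers

variable {A B : Type u} [CommRing A] [CommRing B] [IsNoetherianRing A] [IsNoetherianRing B]
  {φ : A →+* B} {I : Ideal A} {J : Ideal B}

theorem hom_eq (hIJ : I.map φ ≤ J) {f : A} {g : B} {θ θ' : K I f →+* K J g}
    (h : θ.comp (algebraMap A (K I f)) = (algebraMap B (K J g)).comp φ)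
    (h' : θ'.comp (algebraMap A (K I f)) = (algebraMap B (K J g)).comp φ) : θ = θ' := by
  have := CompletedLoc.isAdicComplete J g
  refine Permanence.hom_ext (K' := J.map (algebraMap B (K J g))) ?_ (h.trans h'.symm)
  rw [h, ← Ideal.map_map]
  exact Ideal.map_mono hIJ

omit [IsNoetherianRing A] [IsNoetherianRing B] in
theorem isUnit_of_dvd {g g' : B} (h : g ∣ g') : IsUnit (algebraMap B (Localization.Away g') g) :=
  isUnit_of_dvd_unit (map_dvd _ h) (IsLocalization.Away.algebraMap_isUnit (S := Localization.Away g') g')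

omit [IsNoetherianRing A] [IsNoetherianRing B] in
theorem isRigClosed_comap {R T : Type u} [CommRing R] [CommRing T] [IsNoetherianRing T] {I' : Ideal R}
    {K' : Ideal T} [IsAdicComplete K' T] (α : R →+* T) (hK : I'.map α = K') {q : PrimeSpectrum T}
    (hq : Closed.IsRigClosed K' q) (hfin : ((Ideal.Quotient.mk q.asIdeal).comp α).Finite) :
    Closed.IsRigClosed I' (PrimeSpectrum.comap α q) := by
  let _ : Algebra R T := α.toAlgebra
  subst hK
  have : IsAdicComplete (I'.map (algebraMap R T)) T := ‹_›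
  exact Closed.isRigClosed_comap_of_finite (A := R) (I := I') hq (RingHom.finite_algebraMap.mp hfin)

omit [IsNoetherianRing A] [IsNoetherianRing B] in
theorem flat_trans {R S T : Type u} [CommRing R] [CommRing S] [CommRing T] (α : R →+* S) (β : S →+* T)
    (q : Ideal T) [q.IsPrime] (h1 : ((algebraMap S (Localization.AtPrime (q.comap β))).comp α).Flat)
    (h2 : ((algebraMap T (Localization.AtPrime q)).comp β).Flat) :
    ((algebraMap T (Localization.AtPrime q)).comp (β.comp α)).Flat := by
  let l := Localization.localRingHom (q.comap β) q β rfl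
  have hl : l.Flat := by
    have hc : l.comp (algebraMap S _) = (algebraMap T (Localization.AtPrime q)).comp β :=
      RingHom.ext fun x => Localization.localRingHom_to_map (q.comap β) q β rfl x
    rw [← hc] at h2
    let _ : Algebra (Localization.AtPrime (q.comap β)) (Localization.AtPrime q) := l.toAlgebra
    let _ : Algebra S (Localization.AtPrime q) := (l.comp (algebraMap S _)).toAlgebra
    have : IsScalarTower S (Localization.AtPrime (q.comap β)) (Localization.AtPrime q) :=
      IsScalarTower.of_algebraMap_eq' rfl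
    exact (Module.flat_iff_of_isLocalization (Localization.AtPrime (q.comap β)) (q.comap β).primeCompl
      (Localization.AtPrime q)).mpr h2
  refine (show _ = (algebraMap T (Localization.AtPrime q)).comp (β.comp α) from RingHom.ext fun x => ?_) ▸ h1.comp hl
  exact Localization.localRingHom_to_map (q.comap β) q β rfl (α x)

omit [IsNoetherianRing A] [IsNoetherianRing B] in
theorem finiteType_trans {A B C : Type u} [CommRing A] [CommRing B] [CommRing C] [Algebra A B] [Algebra B C]
    [Algebra A C] [IsScalarTower A B C] {J : Ideal B} {J' : Ideal C} (hJ : J.map (algebraMap B C) ≤ J')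
    (h1 : Algebra.FiniteType A (B ⧸ J)) (h2 : Algebra.FiniteType B (C ⧸ J')) : Algebra.FiniteType A (C ⧸ J') := by
  let f : (B ⧸ J) →+* C ⧸ J' := Ideal.quotientMap J' (algebraMap B C) (Ideal.map_le_iff_le_comap.mp hJ)
  have hf : f.FiniteType := RingHom.FiniteType.of_comp_finiteType (f := Ideal.Quotient.mk J) (g := f)
    (RingHom.finiteType_algebraMap.mpr h2)
  rw [← RingHom.finiteType_algebraMap]
  refine (show f.comp (algebraMap A (B ⧸ J)) = algebraMap A (C ⧸ J') from RingHom.ext fun a => ?_) ▸
    hf.comp (RingHom.finiteType_algebraMap.mpr h1)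
  exact congrArg (Ideal.Quotient.mk _) (IsScalarTower.algebraMap_apply A B C a).symm

theorem exists_shrink' {A C : Type u} [CommRing A] [CommRing C] [Algebra A C] [IsNoetherianRing A]
    [IsNoetherianRing C] {I : Ideal A} {J : Ideal C} (hJ : J = I.map (algebraMap A C))
    (hft : Algebra.FiniteType A (C ⧸ J)) (g : C)
    (q : PrimeSpectrum (K J g)) (hq : Closed.IsRigClosed (J.map (algebraMap C (K J g))) q) :
    ∃ h : A, ∀ g' : C, g' = g * algebraMap A C h →
      ∃ (θ : K J g →+* K J g') (q' : PrimeSpectrum (K J g')),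
      θ.comp (algebraMap C (K J g)) = (algebraMap C (K J g')).comp (RingHom.id C) ∧
      q'.asIdeal.comap θ = q.asIdeal ∧
      Closed.IsRigClosed (J.map (algebraMap C (K J g'))) q' ∧
      ∀ (f : A), IsUnit (algebraMap C (Localization.Away g') (algebraMap A C f)) → h ∣ f →
      ∀ ω : K I f →+* K J g',
        ω.comp (algebraMap A (K I f)) = (algebraMap C (K J g')).comp (algebraMap A C) →
        ((Ideal.Quotient.mk q'.asIdeal).comp ω).Finite := by
  obtain ⟨h, θ, q', h1, h2, h3, h4⟩ := exists_shrink hJ hft g q hq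
  exact ⟨h, fun g' hg' => by subst hg'; exact ⟨θ, q', h1, h2, h3, h4⟩⟩

omit [IsNoetherianRing A] [IsNoetherianRing B] in
theorem map_map_eq (g : B) : (J.map (algebraMap B (Localization.Away g))).map (algebraMap (Localization.Away g) (K J g)) =
    J.map (algebraMap B (K J g)) := Base.Trunc.completion_map

/-- Rig-flatness gives flatness for any compatible map. -/
theorem apply_rigFlat [Algebra A B] (h : Permanence.RigFlat A B I J) {f : A}
    {ψ : K I f →+* K J (algebraMap A B f)}
    (hψ : ψ.comp (algebraMap A (K I f)) = (algebraMap B (K J (algebraMap A B f))).comp (algebraMap A B))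
    {q : PrimeSpectrum (K J (algebraMap A B f))}
    (hq : Closed.IsRigClosed (J.map (algebraMap B (K J (algebraMap A B f)))) q) :
    ((algebraMap (K J (algebraMap A B f)) (Localization.AtPrime q.asIdeal)).comp ψ).Flat :=
  h f ψ (comp_loc hψ) q (by rw [map_map_eq]; exact hq)

end Helpers

section Comp

variable {A B C : Type u} [CommRing A] [CommRing B] [CommRing C] [IsNoetherianRing A] [IsNoetherianRing B]
  [IsNoetherianRing C] [Algebra A B] [Algebra A C] [Algebra B C] [IsScalarTower A B C] {I : Ideal A}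

theorem comp {JB : Ideal B} {JC : Ideal C} (hJB : I.map (algebraMap A B) = JB) (hJC : JC = I.map (algebraMap A C))
    (hftB : Algebra.FiniteType A (B ⧸ JB)) (hftC : Algebra.FiniteType B (C ⧸ JC))
    (hAB : Permanence.RigFlat A B I JB) (hBC : Permanence.RigFlat B C JB JC) :
    Permanence.RigFlat A C I JC := by
  intro f ψ hψ q hq
  have hJBC : JB.map (algebraMap B C) = JC := by rw [← hJB, hJC, Ideal.map_map, ← IsScalarTower.algebraMap_eq]
  have hJAC : I.map (algebraMap A C) ≤ JC := hJC.ge
  rw [map_map_eq] at hq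
  obtain ⟨h, hh⟩ := exists_shrink' (C := C) (J := JC) hJC (finiteType_trans hJBC.le hftB hftC) _ q hq
  obtain ⟨θ, q', hθ, hcomap, hq', hfin⟩ := hh (algebraMap B C (algebraMap A B (f * h)))
    (by rw [← IsScalarTower.algebraMap_apply, map_mul])
  let g' := algebraMap B C (algebraMap A B (f * h))
  have hu : IsUnit (algebraMap C (Localization.Away g') (algebraMap A C (f * h))) :=
    isUnit_of_dvd (dvd_of_eq (IsScalarTower.algebraMap_apply A B C (f * h)))
  obtain ⟨ψ₁, hψ₁⟩ := exists_map (I := I) (J := JB) (algebraMap A B) hJB.le (f * h) (algebraMap A B (f * h))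
    (isUnit_of_dvd dvd_rfl)
  obtain ⟨ψ₂, hψ₂⟩ := exists_map (I := JB) (J := JC) (algebraMap B C) hJBC.le (algebraMap A B (f * h)) g'
    (isUnit_of_dvd dvd_rfl)
  obtain ⟨θA, hθA⟩ := exists_map (I := I) (J := I) (RingHom.id A) (by rw [Ideal.map_id]) f (f * h)
    (isUnit_of_dvd (dvd_mul_right f h))
  have hω : (ψ₂.comp ψ₁).comp (algebraMap A (K I (f * h))) = (algebraMap C (K JC g')).comp (algebraMap A C) := by
    rw [RingHom.comp_assoc, hψ₁, ← RingHom.comp_assoc, hψ₂, RingHom.comp_assoc, ← IsScalarTower.algebraMap_eq]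
  have hfin' := hfin (f * h) hu (dvd_mul_left h f) _ hω
  rw [← RingHom.comp_assoc] at hfin'
  have := CompletedLoc.isNoetherianRing JC g'
  have := CompletedLoc.isAdicComplete JC g'
  have hp := isRigClosed_comap ψ₂ (show (JB.map (algebraMap B (K JB (algebraMap A B (f * h))))).map ψ₂ = _ by
    rw [Ideal.map_map, hψ₂, ← Ideal.map_map, hJBC]) hq' (RingHom.Finite.of_comp_finite hfin')
  have h1 := apply_rigFlat hAB hψ₁ hp
  have h2 := apply_rigFlat hBC hψ₂ hq'
  have h3 := flat_trans ψ₁ ψ₂ q'.asIdeal (by exact h1) h2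
  have h4 := (flat_map (φ := RingHom.id A) (RingHom.Flat.id A) (by rw [Ideal.map_id]) θA hθA).comp h3
  refine flat_descent θ (flat_map (φ := RingHom.id C) (RingHom.Flat.id C) (by rw [Ideal.map_id]) θ hθ) ψ
    q.asIdeal q'.asIdeal hcomap ?_
  rw [RingHom.comp_assoc] at h4
  convert h4 using 2
  refine hom_eq (φ := algebraMap A C) hJAC ?_ ?_
  · rw [RingHom.comp_assoc, comp_algebraMap hψ, ← RingHom.comp_assoc, hθ, RingHom.comp_id]
  · rw [RingHom.comp_assoc, hθA, RingHom.comp_id, hω]

end Comp

section Square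

variable {A B A' B' : Type u} [CommRing A] [CommRing B] [CommRing A'] [CommRing B'] [IsNoetherianRing A]
  [IsNoetherianRing B] [IsNoetherianRing A'] [IsNoetherianRing B'] [Algebra A B] [Algebra A A'] [Algebra A B']
  [Algebra B B'] [Algebra A' B'] [IsScalarTower A B B'] [IsScalarTower A A' B'] {I : Ideal A}

theorem descent [Module.Flat A A'] [Module.FaithfullyFlat B B'] {JB : Ideal B} {IA' : Ideal A'} {J' : Ideal B'}
    (hJB : I.map (algebraMap A B) = JB) (hIA' : I.map (algebraMap A A') = IA') (hJA' : IA'.map (algebraMap A' B') = J')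
    (h : Permanence.RigFlat A' B' IA' J') :
    Permanence.RigFlat A B I JB := by
  intro f ψ hψ q hq
  rw [map_map_eq] at hq
  have hJ' : JB.map (algebraMap B B') = J' := by
    rw [← hJB, ← hJA', ← hIA', Ideal.map_map, Ideal.map_map, ← IsScalarTower.algebraMap_eq, ← IsScalarTower.algebraMap_eq]
  let g := algebraMap A B f
  let g' := algebraMap A' B' (algebraMap A A' f)
  have hgg : algebraMap B B' g = g' := by
    rw [← IsScalarTower.algebraMap_apply A B B', IsScalarTower.algebraMap_apply A A' B']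
  have hTn := CompletedLoc.isNoetherianRing JB g
  have hTc := CompletedLoc.isAdicComplete JB g
  have hT'n := CompletedLoc.isNoetherianRing J' g'
  have hT'c := CompletedLoc.isAdicComplete J' g'
  obtain ⟨θB, hθB⟩ := exists_map (I := JB) (J := J') (algebraMap B B') hJ'.le g g'
    (isUnit_of_dvd (dvd_of_eq hgg))
  have hθBflat := flat_map (φ := algebraMap B B') (RingHom.flat_algebraMap_iff.mpr inferInstance) hJ'.le θB hθB
  obtain ⟨M, hM, hqM⟩ := Ideal.exists_le_maximal q.asIdeal q.isPrime.ne_top
  have hJM : JB.map (algebraMap B (K JB g)) ≤ M := fun x hx =>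
    Ideal.mem_sInf.mp (IsAdicComplete.le_jacobson_bot _ hx) ⟨bot_le, hM⟩
  obtain ⟨⟨Q₀, hQ₀⟩, hQ₀M⟩ := PrimeSpectrum.comap_surjective_of_faithfullyFlat (A := B) (B := B')
    ⟨M.comap (algebraMap B (K JB g)), inferInstance⟩
  have hQM : Q₀.comap (algebraMap B B') = M.comap (algebraMap B (K JB g)) := congrArg PrimeSpectrum.asIdeal hQ₀M
  let F := FractionRing (B' ⧸ Q₀)
  let π : B' →+* F := (algebraMap (B' ⧸ Q₀) F).comp (Ideal.Quotient.mk Q₀)
  have hπker : ∀ x, π x = 0 ↔ x ∈ Q₀ := fun x => by
    rw [RingHom.comp_apply, map_eq_zero_iff _ (IsFractionRing.injective _ _), Ideal.Quotient.eq_zero_iff_mem]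
  have hπg : IsUnit (π g') := by
    refine IsUnit.mk0 _ fun h0 => hM.ne_top (Ideal.eq_top_of_isUnit_mem M (x := algebraMap B (K JB g) g) ?_ ?_)
    · have : g ∈ Q₀.comap (algebraMap B B') := by
        rw [Ideal.mem_comap, hgg]; exact (hπker _).mp h0
      rwa [hQM] at this
    · rw [IsScalarTower.algebraMap_apply B (Localization.Away g) (K JB g)]
      exact (IsLocalization.Away.algebraMap_isUnit (S := Localization.Away g) g).map _
  have hπJ : J'.map π = ⊥ := by
    rw [Ideal.map_eq_bot_iff_le_ker]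
    intro x hx
    rw [RingHom.mem_ker, hπker]
    rw [← hJ'] at hx
    refine (Ideal.map_le_iff_le_comap.mpr ?_) hx
    rw [hQM, ← Ideal.map_le_iff_le_comap]
    exact hJM
  obtain ⟨Θ, hΘ⟩ := exists_extend (J := J') g' π hπg (by rw [hπJ]; infer_instance)
  let Q := RingHom.ker Θ
  have : Q.IsPrime := RingHom.ker_isPrime Θ
  have hJQ : J'.map (algebraMap B' (K J' g')) ≤ Q := by
    rw [← Ideal.map_eq_bot_iff_le_ker, Ideal.map_map, hΘ, hπJ]
  have hcon : (Q.comap θB).comap (algebraMap B (K JB g)) = M.comap (algebraMap B (K JB g)) := by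
    rw [Ideal.comap_comap, hθB, ← Ideal.comap_comap, ← hQM]
    congr 1
    ext x
    rw [Ideal.mem_comap, RingHom.mem_ker, show Θ (algebraMap B' (K J' g') x) = π x from RingHom.congr_fun hΘ x, hπker]
  have hQeq : M ≤ Q.comap θB := by
    intro x hx
    obtain ⟨c, hc⟩ := Base.Trunc.exists_sub_mem (IsNoetherian.noetherian _) 1 x
    rw [pow_one, ← CompletedLoc.map_eq] at hc
    obtain ⟨k, a, hca⟩ := IsLocalization.Away.surj g c
    have hJQ' : JB.map (algebraMap B (K JB g)) ≤ Q.comap θB := by
      rw [← Ideal.map_le_iff_le_comap, Ideal.map_map, hθB, ← Ideal.map_map, hJ']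
      exact hJQ
    have hcM : algebraMap (Localization.Away g) (K JB g) c ∈ M := by
      have := sub_mem hx (hJM hc); rwa [sub_sub_cancel] at this
    have ha : algebraMap B (K JB g) a ∈ M := by
      rw [IsScalarTower.algebraMap_apply B (Localization.Away g) (K JB g), ← hca, map_mul]
      exact M.mul_mem_right _ hcM
    have ha' : algebraMap B (K JB g) a ∈ Q.comap θB := by
      have : a ∈ (Q.comap θB).comap (algebraMap B (K JB g)) := hcon ▸ ha
      exact this
    have hu : IsUnit (algebraMap (Localization.Away g) (K JB g) (algebraMap B (Localization.Away g) g ^ k)) :=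
      ((IsLocalization.Away.algebraMap_isUnit (S := Localization.Away g) g).pow k).map _
    have hcQ : algebraMap (Localization.Away g) (K JB g) c ∈ Q.comap θB := by
      rw [IsScalarTower.algebraMap_apply B (Localization.Away g) (K JB g), ← hca, map_mul, mul_comm] at ha'
      exact (Ideal.unit_mul_mem_iff_mem _ hu).mp ha'
    have := add_mem (hJQ' hc) hcQ
    rwa [sub_add_cancel] at this
  let _ : Algebra (K JB g) (K J' g') := θB.toAlgebra
  have : Module.Flat (K JB g) (K J' g') := hθBflat
  have : Q.LiesOver (Q.comap θB) := ⟨rfl⟩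
  obtain ⟨q₀, -, hq₀, hover⟩ := Ideal.exists_ideal_le_liesOver_of_le (p := q.asIdeal) (q := Q.comap θB) Q
    (hqM.trans hQeq)
  have hnot : ¬ J'.map (algebraMap B' (K J' g')) ≤ q₀ := fun hle => hq.1 (by
    rw [hover.over]
    show _ ≤ q₀.comap θB
    rw [← Ideal.map_le_iff_le_comap, Ideal.map_map, hθB, ← Ideal.map_map, hJ']
    exact hle)
  obtain ⟨q₁, hle, hq₁⟩ := Closed.exists_ge hnot
  have hcomap : q₁.asIdeal.comap θB = q.asIdeal := congrArg PrimeSpectrum.asIdeal (hq.2 (PrimeSpectrum.comap θB q₁)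
    (fun x hx => hle (by rw [hover.over] at hx; exact hx)) fun hle' => hq₁.1
      (le_of_eq_of_le (congrArg (Ideal.map (algebraMap B' (K J' g'))) hJ'.symm) (by
        rw [Ideal.map_map, ← hθB, ← Ideal.map_map]
        exact Ideal.map_le_iff_le_comap.mpr hle')))
  obtain ⟨θA, hθA⟩ := exists_map (I := I) (J := IA') (algebraMap A A') hIA'.le f (algebraMap A A' f)
    (isUnit_of_dvd dvd_rfl)
  obtain ⟨ψ', hψ'⟩ := exists_map (I := IA') (J := J') (algebraMap A' B') hJA'.le (algebraMap A A' f) g'
    (isUnit_of_dvd dvd_rfl)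
  have h3 := (flat_map (φ := algebraMap A A') (RingHom.flat_algebraMap_iff.mpr inferInstance) hIA'.le θA hθA).comp
    (apply_rigFlat h hψ' hq₁)
  refine flat_descent θB hθBflat ψ q.asIdeal q₁.asIdeal hcomap ?_
  rw [RingHom.comp_assoc] at h3
  convert h3 using 2
  refine hom_eq (φ := algebraMap A B') (by rw [← hJA', ← hIA', Ideal.map_map, ← IsScalarTower.algebraMap_eq]) ?_ ?_
  · rw [RingHom.comp_assoc, comp_algebraMap hψ, ← RingHom.comp_assoc, hθB, RingHom.comp_assoc,
      ← IsScalarTower.algebraMap_eq]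
  · rw [RingHom.comp_assoc, hθA, ← RingHom.comp_assoc, hψ', RingHom.comp_assoc, ← IsScalarTower.algebraMap_eq]

theorem etale_baseChange {JB : Ideal B} {IA' : Ideal A'} {J' : Ideal B'}
    (hJB : I.map (algebraMap A B) = JB) (hIA' : IA' = I.map (algebraMap A A')) (hJA' : IA'.map (algebraMap A' B') = J')
    (hftA' : Algebra.FiniteType A (A' ⧸ IA')) (hftB' : Algebra.FiniteType A' (B' ⧸ J')) [Module.Flat A A'] [Module.Flat B B']
    (hunr : Algebra.FormallyUnramified A (A' ⧸ IA')) (h : Permanence.RigFlat A B I JB) :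
    Permanence.RigFlat A' B' IA' J' := by
  intro f' ψ hψ q hq
  rw [map_map_eq] at hq
  have hJ'eq : J' = I.map (algebraMap A B') := by rw [← hJA', hIA', Ideal.map_map, ← IsScalarTower.algebraMap_eq]
  have hJ'B : JB.map (algebraMap B B') = J' := by
    rw [hJ'eq, ← hJB, Ideal.map_map, ← IsScalarTower.algebraMap_eq]
  obtain ⟨h₀, hh⟩ := exists_shrink' (A := A) (I := I) (C := B') (J := J') hJ'eq
    (finiteType_trans (B := A') (J := IA') hJA'.le hftA' hftB') _ q hq
  obtain ⟨θ, q', hθ, hcomap, hq', hfin⟩ := hh (algebraMap A' B' (f' * algebraMap A A' h₀))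
    (by rw [map_mul, ← IsScalarTower.algebraMap_apply])
  let f'' := f' * algebraMap A A' h₀
  let g' := algebraMap A' B' f''
  have hu : IsUnit (algebraMap B' (Localization.Away g') (algebraMap A B' h₀)) :=
    isUnit_of_dvd (by
      rw [IsScalarTower.algebraMap_apply A A' B']
      exact map_dvd _ (dvd_mul_left _ f'))
  obtain ⟨ψ₁, hψ₁⟩ := exists_map (I := I) (J := JB) (algebraMap A B) hJB.le h₀ (algebraMap A B h₀)
    (isUnit_of_dvd dvd_rfl)
  obtain ⟨ψ₂, hψ₂⟩ := exists_map (I := JB) (J := J') (algebraMap B B') hJ'B.le (algebraMap A B h₀) g'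
    (by rw [← IsScalarTower.algebraMap_apply A B B']; exact hu)
  obtain ⟨α, hα⟩ := exists_map (I := I) (J := IA') (algebraMap A A') hIA'.ge h₀ f''
    (isUnit_of_dvd (dvd_mul_left _ f'))
  obtain ⟨β, hβ⟩ := exists_map (I := IA') (J := J') (algebraMap A' B') hJA'.le f'' g' (isUnit_of_dvd dvd_rfl)
  obtain ⟨θA, hθA⟩ := exists_map (I := IA') (J := IA') (RingHom.id A') (by rw [Ideal.map_id]) f' f''
    (isUnit_of_dvd (dvd_mul_right f' _))
  have hω : (ψ₂.comp ψ₁).comp (algebraMap A (K I h₀)) = (algebraMap B' (K J' g')).comp (algebraMap A B') := by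
    rw [RingHom.comp_assoc, hψ₁, ← RingHom.comp_assoc, hψ₂, RingHom.comp_assoc, ← IsScalarTower.algebraMap_eq]
  have hω' : (β.comp α).comp (algebraMap A (K I h₀)) = (algebraMap B' (K J' g')).comp (algebraMap A B') := by
    rw [RingHom.comp_assoc, hα, ← RingHom.comp_assoc, hβ, RingHom.comp_assoc, ← IsScalarTower.algebraMap_eq]
  have hfin1 := hfin h₀ hu dvd_rfl _ hω
  have hfin2 := hfin h₀ hu dvd_rfl _ hω'
  rw [← RingHom.comp_assoc] at hfin1
  have hTn := CompletedLoc.isNoetherianRing J' g'
  have := CompletedLoc.isAdicComplete J' g'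
  have hSn := CompletedLoc.isNoetherianRing I h₀
  have hSc := CompletedLoc.isAdicComplete I h₀
  have hRn := CompletedLoc.isNoetherianRing IA' f''
  have hRc := CompletedLoc.isAdicComplete IA' f''
  have hpB := isRigClosed_comap ψ₂ (show (JB.map (algebraMap B (K JB (algebraMap A B h₀)))).map ψ₂ = _ by
    rw [Ideal.map_map, hψ₂, ← Ideal.map_map, hJ'B]) hq' (RingHom.Finite.of_comp_finite hfin1)
  have hpA := isRigClosed_comap (β.comp α) (show (I.map (algebraMap A (K I h₀))).map (β.comp α) = _ by
    rw [Ideal.map_map, hω', ← Ideal.map_map, ← hJ'eq]) hq' hfin2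
  let pA' := PrimeSpectrum.comap β q'
  let _ : Algebra (K I h₀) (K IA' f'') := α.toAlgebra
  have : IsScalarTower A (K I h₀) (K IA' f'') := IsScalarTower.of_algebraMap_eq' (by
    rw [IsScalarTower.algebraMap_eq A A' (K IA' f'')]; exact hα.symm)
  have hmapI : (I.map (algebraMap A (K I h₀))).map (algebraMap (K I h₀) (K IA' f'')) = IA'.map (algebraMap A' (K IA' f'')) :=
    (((Ideal.map_map _ _).trans (congrArg (fun e => Ideal.map e I) hα)).trans (Ideal.map_map _ _).symm).trans
      (congrArg (Ideal.map (algebraMap A' (K IA' f''))) hIA'.symm)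
  have : IsAdicComplete ((I.map (algebraMap A (K I h₀))).map (algebraMap (K I h₀) (K IA' f''))) (K IA' f'') := by
    rw [hmapI]; exact hRc
  have hft1 : Algebra.FiniteType (K I h₀) (K IA' f'' ⧸ (I.map (algebraMap A (K I h₀))).map (algebraMap (K I h₀) (K IA' f''))) := by
    rw [Ideal.map_map, ← IsScalarTower.algebraMap_eq A (K I h₀) (K IA' f'')]
    have := CompletedLoc.finiteType IA' f'' hIA' hftA'
    exact Algebra.FiniteType.of_restrictScalars_finiteType A _ _
  have hunr1 : Algebra.FormallyUnramified (K I h₀) (K IA' f'' ⧸ (I.map (algebraMap A (K I h₀))).map (algebraMap (K I h₀) (K IA' f''))) := by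
    set J₁ := (I.map (algebraMap A (K I h₀))).map (algebraMap (K I h₀) (K IA' f''))
    let ρ : (A' ⧸ IA') →ₐ[A] K IA' f'' ⧸ J₁ :=
      Ideal.Quotient.liftₐ IA' ((Ideal.Quotient.mkₐ A J₁).comp (IsScalarTower.toAlgHom A A' (K IA' f''))) fun a ha =>
        Ideal.Quotient.eq_zero_iff_mem.mpr (by rw [hmapI]; exact Ideal.mem_map_of_mem _ ha)
    have hρ : IsUnit (ρ (Ideal.Quotient.mk IA' f'')) := by
      show IsUnit (Ideal.Quotient.mk J₁ (algebraMap A' (K IA' f'') f''))
      rw [IsScalarTower.algebraMap_apply A' (Localization.Away f'') (K IA' f'')]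
      exact ((IsLocalization.Away.algebraMap_isUnit (S := Localization.Away f'') f'').map _).map _
    let ρ' : Localization.Away (Ideal.Quotient.mk IA' f'') →ₐ[A] K IA' f'' ⧸ J₁ :=
      { IsLocalization.Away.lift (g := ρ.toRingHom) (Ideal.Quotient.mk IA' f'') hρ with
        commutes' := fun a => by
          rw [IsScalarTower.algebraMap_apply A (A' ⧸ IA') (Localization.Away (Ideal.Quotient.mk IA' f''))]
          exact (IsLocalization.Away.lift_eq (g := ρ.toRingHom) _ hρ _).trans (ρ.commutes a) }
    have hρlift : ∀ x, ρ' (algebraMap (A' ⧸ IA') _ x) = ρ x := fun x => IsLocalization.Away.lift_eq (g := ρ.toRingHom) _ hρ x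
    have hsurj : Function.Surjective ρ' := fun y => by
      obtain ⟨y, rfl⟩ := Ideal.Quotient.mk_surjective y
      obtain ⟨c, hc⟩ := Base.Trunc.exists_sub_mem (IsNoetherian.noetherian _) 1 y
      rw [pow_one, ← CompletedLoc.map_eq, ← hmapI] at hc
      obtain ⟨k, a, hca⟩ := IsLocalization.Away.surj f'' c
      obtain ⟨u, hu⟩ := (IsLocalization.Away.algebraMap_isUnit
        (S := Localization.Away (Ideal.Quotient.mk IA' f'')) (Ideal.Quotient.mk IA' f'')).exists_right_inv
      refine ⟨algebraMap (A' ⧸ IA') _ (Ideal.Quotient.mk IA' a) * u ^ k, ?_⟩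
      rw [Ideal.Quotient.eq.mpr hc]
      have h1 : ρ' (algebraMap (A' ⧸ IA') _ (Ideal.Quotient.mk IA' a)) =
          Ideal.Quotient.mk J₁ (algebraMap (Localization.Away f'') (K IA' f'') c) * ρ' (algebraMap (A' ⧸ IA') _ (Ideal.Quotient.mk IA' f'')) ^ k := by
        rw [hρlift, hρlift]
        show Ideal.Quotient.mk J₁ (algebraMap A' (K IA' f'') a) = _ * (Ideal.Quotient.mk J₁ (algebraMap A' (K IA' f'') f'')) ^ k
        rw [IsScalarTower.algebraMap_apply A' (Localization.Away f'') (K IA' f''),
          IsScalarTower.algebraMap_apply A' (Localization.Away f'') (K IA' f''), ← map_pow, ← map_mul, ← map_pow, ← map_mul, hca]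
      rw [map_mul, map_pow, h1, mul_assoc, ← mul_pow, ← map_mul, hu, map_one, one_pow, mul_one]
    have : Algebra.FormallyUnramified (A' ⧸ IA') (Localization.Away (Ideal.Quotient.mk IA' f'')) :=
      Algebra.FormallyUnramified.of_isLocalization (Submonoid.powers (Ideal.Quotient.mk IA' f''))
    have := Algebra.FormallyUnramified.comp A (A' ⧸ IA') (Localization.Away (Ideal.Quotient.mk IA' f''))
    have := Algebra.FormallyUnramified.of_surjective ρ' hsurj
    exact Algebra.FormallyUnramified.of_restrictScalars A (K I h₀) _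
  have hpA' : Closed.IsRigClosed (I.map (algebraMap A (K I h₀))) (PrimeSpectrum.comap (algebraMap (K I h₀) (K IA' f'')) pA') := hpA
  have hmax := Unramified.map_eq_maximalIdeal _ hft1 hunr1 pA' hpA'
  rw [Ideal.map_map, ← IsScalarTower.algebraMap_eq] at hmax
  have h1 := apply_rigFlat h hψ₁ hpB
  have h2 : ((algebraMap (K J' g') (Localization.AtPrime q'.asIdeal)).comp ψ₂).Flat :=
    (flat_map (φ := algebraMap B B') (RingHom.flat_algebraMap_iff.mpr inferInstance) hJ'B.le ψ₂ hψ₂).comp
      (RingHom.flat_algebraMap_iff.mpr (IsLocalization.flat _ q'.asIdeal.primeCompl))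
  have h3 := flat_trans ψ₁ ψ₂ q'.asIdeal (by exact h1) h2
  have hcompeq : ψ₂.comp ψ₁ = β.comp α := hom_eq (φ := algebraMap A B') hJ'eq.ge hω hω'
  rw [hcompeq] at h3
  let R := Localization.AtPrime pA'.asIdeal
  let N := Localization.AtPrime q'.asIdeal
  let l : R →+* N := Localization.localRingHom pA'.asIdeal q'.asIdeal β rfl
  let _ : Algebra R N := l.toAlgebra
  let _ : Algebra (K I h₀) N := ((algebraMap (K J' g') N).comp (β.comp α)).toAlgebra
  have : IsScalarTower (K I h₀) R N := IsScalarTower.of_algebraMap_eq fun x =>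
    (show (algebraMap (K J' g') N) (β (α x)) = l (algebraMap (K IA' f'') R (α x)) from
      (Localization.localRingHom_to_map pA'.asIdeal q'.asIdeal β rfl (α x)).symm).trans
      (congrArg l (IsScalarTower.algebraMap_apply (K I h₀) (K IA' f'') R x).symm)
  have : Module.Flat (K I h₀) N := h3
  have : IsNoetherianRing R := IsLocalization.isNoetherianRing pA'.asIdeal.primeCompl _ hRn
  have : IsNoetherianRing N := IsLocalization.isNoetherianRing q'.asIdeal.primeCompl _ hTn
  have hloc : IsLocalHom l := Localization.isLocalHom_localRingHom _ _ _ _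
  have hRN : l.Flat := CompletedLoc.flat_of_map_eq _ hmax (by
    rw [IsLocalRing.jacobson_eq_maximalIdeal ⊥ bot_ne_top]
    exact ((IsLocalRing.local_hom_TFAE l).out 0 2).mp hloc)
  have h5 : ((algebraMap (K J' g') N).comp β).Flat := by
    have heq : l.comp (algebraMap (K IA' f'') R) = (algebraMap (K J' g') N).comp β := RingHom.ext fun x =>
      Localization.localRingHom_to_map pA'.asIdeal q'.asIdeal β rfl x
    exact heq ▸ (RingHom.flat_algebraMap_iff.mpr (IsLocalization.flat R pA'.asIdeal.primeCompl)).comp hRN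
  have h6 := (flat_map (φ := RingHom.id A') (RingHom.Flat.id A') (by rw [Ideal.map_id]) θA hθA).comp h5
  refine flat_descent θ (flat_map (φ := RingHom.id B') (RingHom.Flat.id B') (by rw [Ideal.map_id]) θ hθ) ψ
    q.asIdeal q'.asIdeal hcomap ?_
  rw [RingHom.comp_assoc] at h6
  convert h6 using 2
  refine hom_eq (φ := algebraMap A' B') hJA'.le ?_ ?_
  · rw [RingHom.comp_assoc, comp_algebraMap hψ, ← RingHom.comp_assoc, hθ, RingHom.comp_id]
  · rw [RingHom.comp_assoc, hθA, RingHom.comp_id, hβ]

end Square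

end Groth.Agent.Adic.Rig.RigFlat
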