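import Groth.Agent.Adic.Rig.CompletedLoc
import Mathlib.RingTheory.Algebraic.Integral
import Mathlib.RingTheory.Localization.Away.Basic

/-! Generic finiteness for residue fields of finite type. -/

namespace Groth.Agent.Adic.Rig.Shrink

universe u

/-- A field of finite type over `A` is finite over some `A[1/f]`. -/
theorem exists_finite_away {A K : Type u} [CommRing A] [Field K] [Algebra A K] [Algebra.FiniteType A K] :
    ∃ (f : A) (h : IsUnit (algebraMap A K f)),
      (IsLocalization.Away.lift (S := Localization.Away f) f h).Finite := by
  classical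
  let Ā := A ⧸ RingHom.ker (algebraMap A K)
  have := RingHom.ker_isPrime (algebraMap A K)
  let _ : Algebra Ā K := (RingHom.kerLift (algebraMap A K)).toAlgebra
  have : IsScalarTower A Ā K := IsScalarTower.of_algebraMap_eq' rfl
  have : FaithfulSMul Ā K := (faithfulSMul_iff_algebraMap_injective _ _).mpr (RingHom.kerLift_injective _)
  let F := FractionRing Ā
  let _ : Algebra F K := FractionRing.liftAlgebra Ā K
  have : IsScalarTower Ā F K := FractionRing.isScalarTower_liftAlgebra Ā K
  have : Algebra.FiniteType Ā K := Algebra.FiniteType.of_restrictScalars_finiteType A _ _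
  have : Algebra.FiniteType F K := Algebra.FiniteType.of_restrictScalars_finiteType Ā _ _
  have : Module.Finite F K := finite_of_finite_type_of_isJacobsonRing F K
  have : Algebra.IsAlgebraic Ā K := ⟨fun z =>
    (IsFractionRing.isAlgebraic_iff Ā F K).mpr (Algebra.IsAlgebraic.isAlgebraic z)⟩
  obtain ⟨s, hs⟩ := (inferInstance : Algebra.FiniteType A K).out
  obtain ⟨r, hr, hint⟩ := Algebra.IsAlgebraic.exists_integral_multiples (R := Ā) s
  obtain ⟨f, rfl⟩ := Ideal.Quotient.mk_surjective r
  have hf : IsUnit (algebraMap A K f) := IsUnit.mk0 _ fun h => hr (Ideal.Quotient.eq_zero_iff_mem.mpr h)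
  refine ⟨f, hf, ?_⟩
  let _ : Algebra (Localization.Away f) K := (IsLocalization.Away.lift f hf).toAlgebra
  have : IsScalarTower A (Localization.Away f) K :=
    IsScalarTower.of_algebraMap_eq fun a => (IsLocalization.Away.lift_eq f hf a).symm
  have : Algebra.FiniteType (Localization.Away f) K := Algebra.FiniteType.of_restrictScalars_finiteType A _ _
  have : Algebra.IsIntegral (Localization.Away f) K := by
    refine ⟨fun x => ?_⟩
    induction (hs ▸ Algebra.mem_top : x ∈ Algebra.adjoin A (s : Set K)) using Algebra.adjoin_induction with
    | mem z hz =>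
      obtain ⟨p, hp, hpz⟩ := hint z hz
      have h1 : IsIntegral (Localization.Away f) (algebraMap A K f * z) := by
        have h2 : IsIntegral A (Ideal.Quotient.mk (RingHom.ker (algebraMap A K)) f • z) := by
          obtain ⟨P, hP, -, hPm⟩ := Polynomial.lifts_and_degree_eq_and_monic
            ((Polynomial.lifts_iff_coeff_lifts (f := Ideal.Quotient.mk (RingHom.ker (algebraMap A K))) _).mpr
              fun k => Ideal.Quotient.mk_surjective _) hp
          refine ⟨P, hPm, ?_⟩
          rw [← hP, Polynomial.eval₂_map] at hpz
          exact hpz
        exact h2.tower_top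
      obtain ⟨u, hu⟩ := (IsLocalization.Away.algebraMap_isUnit (S := Localization.Away f) f).exists_left_inv
      have : z = algebraMap (Localization.Away f) K u * (algebraMap A K f * z) := by
        rw [← mul_assoc, IsScalarTower.algebraMap_apply A (Localization.Away f) K f, ← map_mul, hu, map_one, one_mul]
      rw [this]
      exact isIntegral_algebraMap.mul h1
    | algebraMap a => rw [IsScalarTower.algebraMap_apply A (Localization.Away f) K]; exact isIntegral_algebraMap
    | add x y _ _ hx hy => exact hx.add hy
    | mul x y _ _ hx hy => exact hx.mul hy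
  exact RingHom.finite_algebraMap.mpr (Algebra.IsIntegral.finite (R := Localization.Away f) (A := K))

end Groth.Agent.Adic.Rig.Shrink
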